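import Cfsg.Agent.H31.Unitary.Defs

/-!
The isometry group of the hyperbolic model of the unitary group, its Siegel Levi subgroup and radicals.
-/

set_option autoImplicit false
set_option linter.unusedSectionVars false

namespace H34.Uni

open Matrix hiding gram
open H31.Com.Uni

variable {K : Type*} [Field K] {σ : K →+* K} {m e : ℕ}

/-- The conjugate transpose. -/
def st (σ : K →+* K) {ι κ : Type*} (M : Matrix ι κ K) : Matrix κ ι K := (M.map σ)ᵀ

section St

variable {ι κ μ : Type*}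

theorem st_apply (M : Matrix ι κ K) (i : κ) (j : ι) : st σ M i j = σ (M j i) := rfl

theorem st_zero : st σ (0 : Matrix ι κ K) = 0 := by ext i j; simp [st_apply]

theorem st_one [DecidableEq ι] : st σ (1 : Matrix ι ι K) = 1 := by
  ext i j
  rcases eq_or_ne i j with rfl | h
  · simp [st_apply]
  · simp [st_apply, Matrix.one_apply_ne h, Matrix.one_apply_ne h.symm]

theorem st_mul [Fintype κ] (M : Matrix ι κ K) (N : Matrix κ μ K) : st σ (M * N) = st σ N * st σ M := by
  simp [st, Matrix.map_mul, transpose_mul]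

theorem st_add (M N : Matrix ι κ K) : st σ (M + N) = st σ M + st σ N := by ext i j; simp [st_apply]

theorem st_sub (M N : Matrix ι κ K) : st σ (M - N) = st σ M - st σ N := by ext i j; simp [st_apply]

theorem st_neg (M : Matrix ι κ K) : st σ (-M) = -st σ M := by ext i j; simp [st_apply]

theorem st_smul (c : K) (M : Matrix ι κ K) : st σ (c • M) = σ c • st σ M := by ext i j; simp [st_apply]

theorem st_st [Invol σ] (M : Matrix ι κ K) : st σ (st σ M) = M := by ext i j; simp [st_apply, Invol.invol]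

theorem st_eq_zero [Invol σ] {M : Matrix ι κ K} (h : st σ M = 0) : M = 0 := by
  rw [← st_st (σ := σ) M, h, st_zero]

theorem det_st [Fintype ι] [DecidableEq ι] (M : Matrix ι ι K) : (st σ M).det = σ M.det := by
  rw [st, det_transpose, RingHom.map_det, RingHom.mapMatrix_apply]

end St

/-- A matrix from nine blocks. -/
def mat3 (A B C D : Matrix (Fin m) (Fin m) K) (P Q : Matrix (Fin m) (Fin e) K) (W V : Matrix (Fin e) (Fin m) K)
    (Z : Matrix (Fin e) (Fin e) K) : Matrix (Idx m e) (Idx m e) K :=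
  fromBlocks (fromBlocks A B C D) (fromRows P Q) (fromCols W V) Z

theorem mat3_mul (A B C D : Matrix (Fin m) (Fin m) K) (P Q : Matrix (Fin m) (Fin e) K)
    (W V : Matrix (Fin e) (Fin m) K) (Z : Matrix (Fin e) (Fin e) K)
    (A' B' C' D' : Matrix (Fin m) (Fin m) K) (P' Q' : Matrix (Fin m) (Fin e) K)
    (W' V' : Matrix (Fin e) (Fin m) K) (Z' : Matrix (Fin e) (Fin e) K) :
    mat3 A B C D P Q W V Z * mat3 A' B' C' D' P' Q' W' V' Z' =
      mat3 (A * A' + B * C' + P * W') (A * B' + B * D' + P * V') (C * A' + D * C' + Q * W')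
        (C * B' + D * D' + Q * V') (A * P' + B * Q' + P * Z') (C * P' + D * Q' + Q * Z')
        (W * A' + V * C' + Z * W') (W * B' + V * D' + Z * V') (W * P' + V * Q' + Z * Z') := by
  ext i j
  rcases i with (i | i) | i <;> rcases j with (j | j) | j <;>
    simp [mat3, Matrix.mul_apply, Fintype.sum_sum_type]

theorem mat3_one : mat3 (1 : Matrix (Fin m) (Fin m) K) 0 0 1 0 0 0 0 (1 : Matrix (Fin e) (Fin e) K) = 1 := by
  ext i j
  rcases i with (i | i) | i <;> rcases j with (j | j) | j <;> simp [mat3, Matrix.one_apply]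

theorem mat3_inj {A B C D A' B' C' D' : Matrix (Fin m) (Fin m) K} {P Q P' Q' : Matrix (Fin m) (Fin e) K}
    {W V W' V' : Matrix (Fin e) (Fin m) K} {Z Z' : Matrix (Fin e) (Fin e) K} :
    mat3 A B C D P Q W V Z = mat3 A' B' C' D' P' Q' W' V' Z' ↔
      A = A' ∧ B = B' ∧ C = C' ∧ D = D' ∧ P = P' ∧ Q = Q' ∧ W = W' ∧ V = V' ∧ Z = Z' := by
  simp only [mat3, fromBlocks_inj, fromRows_ext_iff, fromCols_ext_iff]
  tauto

theorem eq_mat3 (M : Matrix (Idx m e) (Idx m e) K) : M = mat3 M.toBlocks₁₁.toBlocks₁₁ M.toBlocks₁₁.toBlocks₁₂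
    M.toBlocks₁₁.toBlocks₂₁ M.toBlocks₁₁.toBlocks₂₂ M.toBlocks₁₂.toRows₁ M.toBlocks₁₂.toRows₂ M.toBlocks₂₁.toCols₁
    M.toBlocks₂₁.toCols₂ M.toBlocks₂₂ := by
  rw [mat3, fromBlocks_toBlocks, fromRows_toRows, fromCols_toCols, fromBlocks_toBlocks]

theorem st_mat3 (A B C D : Matrix (Fin m) (Fin m) K) (P Q : Matrix (Fin m) (Fin e) K)
    (W V : Matrix (Fin e) (Fin m) K) (Z : Matrix (Fin e) (Fin e) K) :
    st σ (mat3 A B C D P Q W V Z) =
      mat3 (st σ A) (st σ C) (st σ B) (st σ D) (st σ W) (st σ V) (st σ P) (st σ Q) (st σ Z) := by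
  ext i j
  rcases i with (i | i) | i <;> rcases j with (j | j) | j <;> simp [mat3, st_apply]

theorem gram_eq : gram m e K = mat3 0 1 1 0 0 0 0 0 1 := by
  ext i j
  rcases i with (i | i) | i <;> rcases j with (j | j) | j <;> simp [mat3, gram]

theorem gram_sq : gram m e K * gram m e K = 1 := by
  simp [gram_eq, mat3_mul, mat3_one]

theorem st_gram : st σ (gram m e K) = gram m e K := by
  simp [gram_eq, st_mat3, st_zero, st_one]

/-- The full isometry group of the model. -/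
def Iso (σ : K →+* K) (m e : ℕ) : Subgroup (GL (Idx m e) K) where
  carrier := {g | st σ g.val * gram m e K * g.val = gram m e K}
  one_mem' := by simp [st_one]
  mul_mem' := by
    intro g h hg hh
    show st σ (g * h).val * gram m e K * (g * h).val = gram m e K
    rw [Units.val_mul, st_mul]
    calc st σ h.val * st σ g.val * gram m e K * (g.val * h.val)
        = st σ h.val * (st σ g.val * gram m e K * g.val) * h.val := by simp only [Matrix.mul_assoc]
      _ = gram m e K := by rw [show st σ g.val * gram m e K * g.val = gram m e K from hg]; exact hh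
  inv_mem' := by
    intro g hg
    have e1 : g.val * (g⁻¹ : GL (Idx m e) K).val = 1 := g.mul_inv
    show st σ (g⁻¹ : GL (Idx m e) K).val * gram m e K * (g⁻¹ : GL (Idx m e) K).val = gram m e K
    conv_lhs => rw [← show st σ g.val * gram m e K * g.val = gram m e K from hg]
    calc st σ (g⁻¹ : GL (Idx m e) K).val * (st σ g.val * gram m e K * g.val) * (g⁻¹ : GL (Idx m e) K).val
        = st σ (g.val * (g⁻¹ : GL (Idx m e) K).val) * gram m e K * (g.val * (g⁻¹ : GL (Idx m e) K).val) := by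
          simp only [st_mul, Matrix.mul_assoc]
      _ = gram m e K := by rw [e1, st_one, Matrix.one_mul, Matrix.mul_one]

/-- The matrix of an isometry. -/
abbrev mx (g : Iso σ m e) : Matrix (Idx m e) (Idx m e) K := ((g : GL (Idx m e) K) : Matrix _ _ K)

theorem mx_mul (g h : Iso σ m e) : mx (g * h) = mx g * mx h := rfl

theorem mx_one : mx (1 : Iso σ m e) = 1 := rfl

theorem mx_ext {g h : Iso σ m e} (e : mx g = mx h) : g = h := Subtype.ext (Units.ext e)

/-- An isometry from its matrix. -/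
def ofMat (M : Matrix (Idx m e) (Idx m e) K) (h : st σ M * gram m e K * M = gram m e K) : Iso σ m e :=
  ⟨⟨M, gram m e K * st σ M * gram m e K,
    mul_eq_one_comm.1 (by rw [Matrix.mul_assoc, Matrix.mul_assoc, ← Matrix.mul_assoc (st σ M), h, gram_sq]),
    by rw [Matrix.mul_assoc, Matrix.mul_assoc, ← Matrix.mul_assoc (st σ M), h, gram_sq]⟩, h⟩

theorem mx_ofMat (M : Matrix (Idx m e) (Idx m e) K) (h : st σ M * gram m e K * M = gram m e K) :
    mx (ofMat M h) = M := rfl

theorem form_mat3 (A B C D : Matrix (Fin m) (Fin m) K) (P Q : Matrix (Fin m) (Fin e) K)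
    (W V : Matrix (Fin e) (Fin m) K) (Z : Matrix (Fin e) (Fin e) K) :
    st σ (mat3 A B C D P Q W V Z) * gram m e K * mat3 A B C D P Q W V Z =
      mat3 (st σ C * A + st σ A * C + st σ W * W) (st σ C * B + st σ A * D + st σ W * V)
        (st σ D * A + st σ B * C + st σ V * W) (st σ D * B + st σ B * D + st σ V * V)
        (st σ C * P + st σ A * Q + st σ W * Z) (st σ D * P + st σ B * Q + st σ V * Z)
        (st σ Q * A + st σ P * C + st σ Z * W) (st σ Q * B + st σ P * D + st σ Z * V)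
        (st σ Q * P + st σ P * Q + st σ Z * Z) := by
  simp [st_mat3, gram_eq, mat3_mul]

theorem rels (g : Iso σ m e) {A B C D : Matrix (Fin m) (Fin m) K} {P Q : Matrix (Fin m) (Fin e) K}
    {W V : Matrix (Fin e) (Fin m) K} {Z : Matrix (Fin e) (Fin e) K} (h : mx g = mat3 A B C D P Q W V Z) :
    st σ C * A + st σ A * C + st σ W * W = 0 ∧ st σ C * B + st σ A * D + st σ W * V = 1 ∧
    st σ D * A + st σ B * C + st σ V * W = 1 ∧ st σ D * B + st σ B * D + st σ V * V = 0 ∧
    st σ C * P + st σ A * Q + st σ W * Z = 0 ∧ st σ D * P + st σ B * Q + st σ V * Z = 0 ∧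
    st σ Q * A + st σ P * C + st σ Z * W = 0 ∧ st σ Q * B + st σ P * D + st σ Z * V = 0 ∧
    st σ Q * P + st σ P * Q + st σ Z * Z = 1 := by
  have h1 : st σ (mx g) * gram m e K * mx g = gram m e K := g.2
  rw [h, form_mat3, gram_eq, mat3_inj] at h1
  exact h1

/-! ### The determinant -/

/-- The determinant. -/
noncomputable def dt : Iso σ m e →* K where
  toFun g := (mx g).det
  map_one' := by rw [mx_one, det_one]
  map_mul' g h := by rw [mx_mul, det_mul]

theorem dt_apply (g : Iso σ m e) : dt g = (mx g).det := rfl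

theorem dt_conj (c g : Iso σ m e) : dt (c * g * c⁻¹) = dt g := by
  rw [map_mul, map_mul, mul_comm (dt c), mul_assoc, ← map_mul, mul_inv_cancel, map_one, mul_one]

/-! ### The radicals -/

/-- Pairs parametrising a Siegel radical. -/
def MPair (σ : K →+* K) (R : Matrix (Fin e) (Fin m) K) (S : Matrix (Fin m) (Fin m) K) : Prop :=
  S + st σ S + st σ R * R = 0

theorem MPair.flip {R : Matrix (Fin e) (Fin m) K} {S : Matrix (Fin m) (Fin m) K} (h : MPair σ R S) :
    st σ S + S + st σ R * R = 0 := by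
  rw [add_comm (st σ S) S]; exact h

/-- An upper unipotent isometry. -/
def up [Invol σ] (R : Matrix (Fin e) (Fin m) K) (S : Matrix (Fin m) (Fin m) K) (h : MPair σ R S) : Iso σ m e :=
  ofMat (mat3 1 S 0 1 (-st σ R) 0 0 R 1) (by
    rw [form_mat3, gram_eq, mat3_inj]
    simp [st_zero, st_one, st_neg, st_st]
    exact h)

/-- A lower unipotent isometry. -/
def lo [Invol σ] (R : Matrix (Fin e) (Fin m) K) (S : Matrix (Fin m) (Fin m) K) (h : MPair σ R S) : Iso σ m e :=
  ofMat (mat3 1 0 S 1 0 (-st σ R) R 0 1) (by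
    rw [form_mat3, gram_eq, mat3_inj]
    simp [st_zero, st_one, st_neg, st_st]
    exact h.flip)

variable [Invol σ]

theorem mx_up {R : Matrix (Fin e) (Fin m) K} {S : Matrix (Fin m) (Fin m) K} (h : MPair σ R S) :
    mx (up R S h) = mat3 1 S 0 1 (-st σ R) 0 0 R 1 := rfl

theorem mx_lo {R : Matrix (Fin e) (Fin m) K} {S : Matrix (Fin m) (Fin m) K} (h : MPair σ R S) :
    mx (lo R S h) = mat3 1 0 S 1 0 (-st σ R) R 0 1 := rfl

theorem up_eq_one {R : Matrix (Fin e) (Fin m) K} {S : Matrix (Fin m) (Fin m) K} {h : MPair σ R S}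
    (hR : R = 0) (hS : S = 0) : up R S h = 1 := by
  subst hR hS
  exact mx_ext (by rw [mx_up, st_zero, neg_zero, mx_one, mat3_one])

theorem up_of_shape {g : Iso σ m e} {S : Matrix (Fin m) (Fin m) K} {P : Matrix (Fin m) (Fin e) K}
    {R : Matrix (Fin e) (Fin m) K} (hg : mx g = mat3 1 S 0 1 P 0 0 R 1) :
    ∃ h : MPair σ R S, g = up R S h := by
  obtain ⟨-, -, -, h4, -, h6, -⟩ := rels g hg
  simp [st_one] at h4 h6
  have hp : P = -st σ R := eq_neg_of_add_eq_zero_left h6
  exact ⟨h4, mx_ext (by rw [hg, hp]; rfl)⟩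

theorem lo_of_shape {g : Iso σ m e} {S : Matrix (Fin m) (Fin m) K} {P : Matrix (Fin m) (Fin e) K}
    {R : Matrix (Fin e) (Fin m) K} (hg : mx g = mat3 1 0 S 1 0 P R 0 1) :
    ∃ h : MPair σ R S, g = lo R S h := by
  obtain ⟨h1, -, -, -, h5, -⟩ := rels g hg
  simp [st_one] at h1 h5
  have hp : P = -st σ R := eq_neg_of_add_eq_zero_left h5
  exact ⟨by rw [MPair, add_comm S]; exact h1, mx_ext (by rw [hg, hp]; rfl)⟩

variable [Fintype K]

/-- The upper radical. -/
def radU (σ : K →+* K) (m e : ℕ) : Subgroup (Iso σ m e) where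
  carrier := {g | ∃ S P R, mx g = mat3 1 S 0 1 P 0 0 R 1}
  one_mem' := ⟨0, 0, 0, by rw [mx_one, mat3_one]⟩
  mul_mem' := by
    rintro g h ⟨S, P, R, hg⟩ ⟨S', P', R', hh⟩
    exact ⟨S' + S + P * R', P' + P, R + R', by rw [mx_mul, hg, hh, mat3_mul]; simp⟩
  inv_mem' := by
    intro g hg
    have h1 : g⁻¹ = g ^ (Nat.card (Iso σ m e) - 1) := by
      rw [inv_eq_iff_mul_eq_one, ← pow_succ', Nat.sub_add_cancel Nat.card_pos, pow_card_eq_one']
    rw [h1]
    generalize Nat.card (Iso σ m e) - 1 = k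
    induction k with
    | zero => exact ⟨0, 0, 0, by rw [pow_zero, mx_one, mat3_one]⟩
    | succ k ih =>
      obtain ⟨S, P, R, hk⟩ := ih
      obtain ⟨S', P', R', hh⟩ := hg
      exact ⟨S' + S + P * R', P' + P, R + R', by rw [pow_succ, mx_mul, hk, hh, mat3_mul]; simp⟩

theorem mem_radU {g : Iso σ m e} : g ∈ radU σ m e ↔ ∃ R S h, g = up R S h := by
  constructor
  · rintro ⟨S, P, R, hg⟩
    obtain ⟨h, rfl⟩ := up_of_shape hg
    exact ⟨R, S, h, rfl⟩
  · rintro ⟨R, S, h, rfl⟩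
    exact ⟨S, _, R, mx_up h⟩

theorem up_mem {R : Matrix (Fin e) (Fin m) K} {S : Matrix (Fin m) (Fin m) K} (h : MPair σ R S) :
    up R S h ∈ radU σ m e := mem_radU.2 ⟨R, S, h, rfl⟩

/-- The element exchanging the two halves. -/
def wS (σ : K →+* K) (m e : ℕ) : Iso σ m e :=
  ofMat (gram m e K) (by rw [st_gram, gram_sq, Matrix.one_mul])

theorem mx_wS : mx (wS σ m e) = mat3 0 1 1 0 0 0 0 0 1 := gram_eq

theorem wS_sq : wS σ m e * wS σ m e = 1 := mx_ext gram_sq

theorem wS_inv : (wS σ m e)⁻¹ = wS σ m e := inv_eq_of_mul_eq_one_right wS_sq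

/-- The lower radical. -/
def radV (σ : K →+* K) [Invol σ] (m e : ℕ) : Subgroup (Iso σ m e) :=
  (radU σ m e).comap (MulAut.conj (wS σ m e) : Iso σ m e ≃* Iso σ m e).toMonoidHom

theorem mem_radV {g : Iso σ m e} : g ∈ radV σ m e ↔ wS σ m e * g * (wS σ m e)⁻¹ ∈ radU σ m e := Iff.rfl

theorem conj_wS_lo {R : Matrix (Fin e) (Fin m) K} {S : Matrix (Fin m) (Fin m) K} (h : MPair σ R S) :
    wS σ m e * lo R S h * (wS σ m e)⁻¹ = up R S h := by
  rw [wS_inv]
  refine mx_ext ?_
  simp [mx_mul, mx_lo, mx_up, mx_wS, mat3_mul]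

theorem lo_mem {R : Matrix (Fin e) (Fin m) K} {S : Matrix (Fin m) (Fin m) K} (h : MPair σ R S) :
    lo R S h ∈ radV σ m e := by
  rw [mem_radV, conj_wS_lo]; exact up_mem h

theorem exists_lo {g : Iso σ m e} (hg : g ∈ radV σ m e) : ∃ R S h, g = lo R S h := by
  obtain ⟨R, S, h, hgu⟩ := mem_radU.1 (mem_radV.1 hg)
  rw [← conj_wS_lo h, mul_left_inj, mul_right_inj] at hgu
  exact ⟨R, S, h, hgu⟩

/-! ### The Levi subgroup -/

/-- Scalars of norm one. -/
def Nz (σ : K →+* K) : Subgroup Kˣ where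
  carrier := {c | (c : K) * σ c = 1}
  one_mem' := by simp
  mul_mem' := by
    intro a b ha hb
    show ((a * b : Kˣ) : K) * σ ((a * b : Kˣ) : K) = 1
    rw [Units.val_mul, map_mul, mul_mul_mul_comm, show (a : K) * σ a = 1 from ha, one_mul]
    exact hb
  inv_mem' := by
    intro a ha
    show ((a⁻¹ : Kˣ) : K) * σ ((a⁻¹ : Kˣ) : K) = 1
    rw [Units.val_inv_eq_inv_val, map_inv₀, ← mul_inv, show (a : K) * σ a = 1 from ha, inv_one]

/-- The value of a norm one scalar. -/
abbrev cz (c : Nz σ) : K := ((c : Kˣ) : K)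

theorem cz_norm (c : Nz σ) : cz c * σ (cz c) = 1 := c.2

theorem st_inv_mul (X : GL (Fin m) K) : st σ X.val * st σ (X⁻¹ : GL (Fin m) K).val = 1 := by
  rw [← st_mul, X.inv_mul, st_one]

/-- The conjugate transpose inverse. -/
def trI (σ : K →+* K) (X : GL (Fin m) K) : GL (Fin m) K :=
  ⟨st σ (X⁻¹ : GL (Fin m) K).val, st σ X.val, by rw [← st_mul, X.mul_inv, st_one],
    by rw [← st_mul, X.inv_mul, st_one]⟩

theorem coe_trI (X : GL (Fin m) K) : (trI σ X).val = st σ (X⁻¹ : GL (Fin m) K).val := rfl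

theorem trI_mul (X Y : GL (Fin m) K) : trI σ (X * Y) = trI σ X * trI σ Y :=
  Units.ext (by rw [Units.val_mul, coe_trI, coe_trI, coe_trI, _root_.mul_inv_rev, Units.val_mul, st_mul])

theorem trI_trI (X : GL (Fin m) K) : trI σ (trI σ X) = X := Units.ext (st_st X.val)

theorem det_trI (X : GL (Fin m) K) : (trI σ X).val.det = (σ X.val.det)⁻¹ := by
  rw [coe_trI, det_st, coe_units_inv, det_nonsing_inv, Ring.inverse_eq_inv', map_inv₀]

theorem lev_form (p : GL (Fin m) K × Nz σ) :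
    st σ (mat3 p.1.val 0 0 (trI σ p.1).val 0 0 0 0 (cz p.2 • (1 : Matrix (Fin e) (Fin e) K))) * gram m e K *
      mat3 p.1.val 0 0 (trI σ p.1).val 0 0 0 0 (cz p.2 • (1 : Matrix (Fin e) (Fin e) K)) = gram m e K := by
  rw [form_mat3, gram_eq, mat3_inj]
  have h1 : cz p.2 * σ (cz p.2) = 1 := cz_norm _
  have h2 : st σ (trI σ p.1).val * p.1.val = 1 := by rw [coe_trI, st_st, p.1.inv_mul]
  have h3 : st σ p.1.val * (trI σ p.1).val = 1 := st_inv_mul p.1
  simp [st_zero, st_smul, st_one, smul_smul, h2, h3, h1]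

/-- The Levi homomorphism. -/
noncomputable def lev : GL (Fin m) K × Nz σ →* Iso σ m e where
  toFun p := ofMat _ (lev_form p)
  map_one' := mx_ext (by
    have h : trI σ (1 : GL (Fin m) K) = 1 := Units.ext (by simp [coe_trI, st_one])
    simp [mx_ofMat, mx_one, h, cz, mat3_one])
  map_mul' p q := mx_ext (by
    simp [mx_ofMat, mx_mul, mat3_mul, trI_mul, cz, smul_smul, mul_comm])

theorem mx_lev (X : GL (Fin m) K) (c : Nz σ) :
    mx (lev (X, c) : Iso σ m e) = mat3 X.val 0 0 (trI σ X).val 0 0 0 0 (cz c • 1) := rfl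

theorem conj_wS_lev (X : GL (Fin m) K) (c : Nz σ) :
    wS σ m e * lev (X, c) * (wS σ m e)⁻¹ = lev (trI σ X, c) := by
  rw [wS_inv]
  refine mx_ext ?_
  simp [mx_mul, mx_lev, mx_wS, mat3_mul, trI_trI]

theorem lev_conj_U {u : Iso σ m e} (hu : u ∈ radU σ m e) (p : GL (Fin m) K × Nz σ) :
    lev p * u * (lev p)⁻¹ ∈ radU σ m e := by
  obtain ⟨S, P, R, hu⟩ := hu
  obtain ⟨X, c⟩ := p
  refine ⟨X.val * S * (trI σ X⁻¹).val, cz c⁻¹ • (X.val * P), cz c • (R * (trI σ X⁻¹).val), ?_⟩
  rw [← map_inv, Prod.inv_mk, mx_mul, mx_mul, mx_lev, mx_lev, hu, mat3_mul, mat3_mul]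
  simp [coe_trI, smul_smul, cz]
  rw [← st_mul, mul_nonsing_inv _ ((isUnit_iff_isUnit_det _).1 X.isUnit), st_one]

theorem lev_conj_V {v : Iso σ m e} (hv : v ∈ radV σ m e) (p : GL (Fin m) K × Nz σ) :
    lev p * v * (lev p)⁻¹ ∈ radV σ m e := by
  obtain ⟨X, c⟩ := p
  rw [mem_radV]
  have := lev_conj_U (mem_radV.1 hv) (trI σ X, c)
  rw [← conj_wS_lev] at this
  convert this using 1
  group

end H34.Uni
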