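import Cfsg.Agent.H34.Uni.Base
import Cfsg.Agent.H31.Commutator.Free

/-!
Absorption of the radicals by free Levi elements.
-/

set_option autoImplicit false
set_option linter.unusedSectionVars false

namespace H34.Uni

open Matrix hiding gram
open H31.Com.Uni Polynomial

variable {K : Type*} [Field K] {σ : K →+* K} [Invol σ] {m e : ℕ}

/-! ### Determinants -/

theorem smul_one_eq_scalar_det (c : K) : (c • (1 : Matrix (Fin e) (Fin e) K)).det = c ^ e := by
  rw [det_smul, det_one, mul_one, Fintype.card_fin]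

theorem dt_of_shape {g : Iso σ m e} {A B C D : Matrix (Fin m) (Fin m) K} {P Q : Matrix (Fin m) (Fin e) K}
    {W V : Matrix (Fin e) (Fin m) K} (h : mx g = mat3 A B C D P Q W V 1) :
    dt g = (fromBlocks (A - P * W) (B - P * V) (C - Q * W) (D - Q * V)).det := by
  rw [dt_apply, h, mat3, det_fromBlocks_one₂₂, fromRows_mul_fromCols]
  congr 1
  ext i j
  rcases i with i | i <;> rcases j with j | j <;> rfl

variable [Fintype K]

theorem dt_radU {u : Iso σ m e} (hu : u ∈ radU σ m e) : dt u = 1 := by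
  obtain ⟨S, P, R, h⟩ := hu
  rw [dt_of_shape h]
  simp

theorem dt_radV {v : Iso σ m e} (hv : v ∈ radV σ m e) : dt v = 1 := by
  rw [← dt_conj (wS σ m e) v]
  exact dt_radU (mem_radV.1 hv)

theorem dt_lev (X : GL (Fin m) K) (c : Nz σ) :
    dt (lev (X, c) : Iso σ m e) = X.val.det * (σ X.val.det)⁻¹ * cz c ^ e := by
  rw [dt_apply, mx_lev, mat3, fromRows_zero, fromCols_zero, det_fromBlocks_zero₂₁, det_fromBlocks_zero₂₁,
    det_trI, smul_one_eq_scalar_det]

theorem dt_wS (h2 : (2 : K) = 0) : dt (wS σ m e) = 1 := by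
  have h : dt (wS σ m e) * dt (wS σ m e) = 1 := by rw [← map_mul, wS_sq, map_one]
  refine (mul_self_eq_one_iff.1 h).elim id fun h' => h'.trans ?_
  linear_combination -h2

/-! ### Absorption -/

theorem exists_absorb {G : Type*} [Group G] {s : G} {U : Subgroup G} [Finite U] (hn : ∀ u ∈ U, s * u * s⁻¹ ∈ U)
    (hf : ∀ u ∈ U, s * u = u * s → u = 1) {u : G} (hu : u ∈ U) : ∃ y ∈ U, y * s * y⁻¹ = u * s := by
  let φ : U → U := fun v => ⟨v.1 * (s * v.1⁻¹ * s⁻¹), U.mul_mem v.2 (hn _ (U.inv_mem v.2))⟩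
  have hinj : Function.Injective φ := by
    intro v w hvw
    have he : v.1 * (s * v.1⁻¹ * s⁻¹) = w.1 * (s * w.1⁻¹ * s⁻¹) := congrArg Subtype.val hvw
    have h1 : w.1⁻¹ * v.1 * s = s * (w.1⁻¹ * v.1) := by
      calc w.1⁻¹ * v.1 * s = w.1⁻¹ * (v.1 * (s * v.1⁻¹ * s⁻¹)) * (s * v.1) := by group
        _ = s * (w.1⁻¹ * v.1) := by rw [he]; group
    exact Subtype.ext (inv_mul_eq_one.1 (hf _ (U.mul_mem (U.inv_mem w.2) v.2) h1.symm)).symm
  obtain ⟨v, hv⟩ := Finite.surjective_of_injective hinj ⟨u, hu⟩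
  have hv' : v.1 * (s * v.1⁻¹ * s⁻¹) = u := congrArg Subtype.val hv
  exact ⟨v.1, v.2, by rw [← hv']; group⟩

/-! ### Freeness -/

/-- A Levi element without fixed points on the upper radical. -/
def Free (σ : K →+* K) (e : ℕ) (a : GL (Fin m) K) (γ : K) : Prop :=
  (∀ S : Matrix (Fin m) (Fin m) K, a.val * S * st σ a.val = S → S = 0) ∧
    ∀ W : Matrix (Fin m) (Fin e) K, a.val * W = γ • W → W = 0

theorem Free.conj {a : GL (Fin m) K} {γ : K} (h : Free σ e a γ) (p : GL (Fin m) K) :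
    Free σ e (p * a * p⁻¹) γ := by
  have hp : p.val * (p⁻¹ : GL (Fin m) K).val = 1 := p.mul_inv
  have hp' : (p⁻¹ : GL (Fin m) K).val * p.val = 1 := p.inv_mul
  refine ⟨fun S hS => ?_, fun W hW => ?_⟩
  · have h1 := h.1 ((p⁻¹ : GL (Fin m) K).val * S * st σ (p⁻¹ : GL (Fin m) K).val) (by
      conv_rhs => rw [← hS]
      simp only [Units.val_mul, st_mul, ← Matrix.mul_assoc, hp', Matrix.one_mul]
      simp only [Matrix.mul_assoc]
      rw [show st σ p.val * st σ (p⁻¹ : GL (Fin m) K).val = 1 by rw [← st_mul, hp', st_one], Matrix.mul_one])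
    have h2 := congrArg (fun T => p.val * T * st σ p.val) h1
    simp only [Matrix.mul_zero, Matrix.zero_mul, ← Matrix.mul_assoc, hp, Matrix.one_mul] at h2
    rwa [Matrix.mul_assoc, ← st_mul, hp, st_one, Matrix.mul_one] at h2
  · have h1 := h.2 ((p⁻¹ : GL (Fin m) K).val * W) (by
      rw [← Matrix.mul_smul, ← hW]
      simp only [Units.val_mul, ← Matrix.mul_assoc, hp', Matrix.one_mul])
    have h2 := congrArg (fun T => p.val * T) h1
    simpa [← Matrix.mul_assoc] using h2

theorem Free.inv {a : GL (Fin m) K} {γ : K} (hγ : γ ≠ 0) (h : Free σ e a γ) : Free σ e a⁻¹ γ⁻¹ := by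
  have hp : a.val * (a⁻¹ : GL (Fin m) K).val = 1 := a.mul_inv
  refine ⟨fun S hS => h.1 S ?_, fun W hW => h.2 W ?_⟩
  · conv_lhs => rw [← hS]
    simp only [← Matrix.mul_assoc, hp, Matrix.one_mul]
    rw [Matrix.mul_assoc, ← st_mul, hp, st_one, Matrix.mul_one]
  · have h1 := congrArg (fun T => γ • (a.val * T)) hW
    simp only [Matrix.mul_smul, smul_smul, mul_inv_cancel₀ hγ, one_smul, ← Matrix.mul_assoc, hp, Matrix.one_mul] at h1
    exact h1.symm

theorem lev_U_commute {X : GL (Fin m) K} {c : Nz σ} {u : Iso σ m e} (hu : u ∈ radU σ m e)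
    (hX : Free σ e X (cz c)) (h : lev (X, c) * u = u * lev (X, c)) : u = 1 := by
  obtain ⟨R, S, hp, rfl⟩ := mem_radU.1 hu
  have e1 := congrArg mx h
  rw [mx_mul, mx_mul, mx_lev, mx_up, mat3_mul, mat3_mul, mat3_inj] at e1
  simp only [Matrix.mul_zero, Matrix.zero_mul, Matrix.one_mul, Matrix.mul_one, add_zero, zero_add] at e1
  obtain ⟨-, h2, -, -, h5, -⟩ := e1
  rw [Matrix.mul_neg, Matrix.mul_smul, Matrix.mul_one, smul_neg, neg_inj] at h5
  have hR : R = 0 := st_eq_zero (hX.2 _ h5)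
  have hS : S = 0 := hX.1 S (by rw [h2, Matrix.mul_assoc, coe_trI, ← st_mul, X.mul_inv, st_one, Matrix.mul_one])
  exact up_eq_one hR hS

theorem lev_V_commute {X : GL (Fin m) K} {c : Nz σ} {v : Iso σ m e} (hv : v ∈ radV σ m e)
    (hX : Free σ e (trI σ X) (cz c)) (h : lev (X, c) * v = v * lev (X, c)) : v = 1 := by
  have h1 := congrArg (fun g => wS σ m e * g * (wS σ m e)⁻¹) h
  have h2 : wS σ m e * v * (wS σ m e)⁻¹ = 1 := by
    refine lev_U_commute (mem_radV.1 hv) hX ?_
    rw [← conj_wS_lev]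
    refine Eq.trans ?_ (h1.trans ?_) <;> group
  exact conj_eq_one_iff.1 h2

/-- A commutator of two isometries of determinant one. -/
def IsComm (g : Iso σ m e) : Prop :=
  ∃ a b : Iso σ m e, dt a = 1 ∧ dt b = 1 ∧ g = a * b * a⁻¹ * b⁻¹

theorem IsComm.of_conj {g : Iso σ m e} (c : Iso σ m e) (h : IsComm (c * g * c⁻¹)) : IsComm g := by
  obtain ⟨a, b, ha, hb, h⟩ := h
  refine ⟨c⁻¹ * a * c⁻¹⁻¹, c⁻¹ * b * c⁻¹⁻¹, by rw [dt_conj, ha], by rw [dt_conj, hb], ?_⟩
  calc g = c⁻¹ * (c * g * c⁻¹) * c := by group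
    _ = _ := by rw [h]; group

theorem aeval_intertwine {A : Matrix (Fin m) (Fin m) K} {β : K} {W : Matrix (Fin m) (Fin e) K}
    (h : A * W = β • W) (Φ : K[X]) : aeval A Φ * W = Φ.eval β • W := by
  induction Φ using Polynomial.induction_on' with
  | add p q hp hq => rw [map_add, Matrix.add_mul, hp, hq, eval_add, add_smul]
  | monomial n x =>
    rw [aeval_monomial, eval_monomial, ← Algebra.smul_def, Matrix.smul_mul, mul_smul]
    congr 1
    induction n with
    | zero => simp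
    | succ k ih => rw [pow_succ, Matrix.mul_assoc, h, Matrix.mul_smul, ih, smul_smul, ← pow_succ']

theorem aeval_st (A : Matrix (Fin m) (Fin m) K) (Φ : K[X]) :
    aeval (st σ A) (Φ.map σ) = st σ (aeval A Φ) := by
  induction Φ using Polynomial.induction_on' with
  | add p q hp hq => rw [Polynomial.map_add, map_add, map_add, hp, hq, st_add]
  | monomial n x =>
    rw [Polynomial.map_monomial, aeval_monomial, aeval_monomial, ← Algebra.smul_def, ← Algebra.smul_def, st_smul]
    congr 1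
    induction n with
    | zero => simp [st_one]
    | succ k ih => rw [pow_succ, pow_succ', ih, st_mul]

theorem coprime_flip {Φ : K[X]} (h : IsCoprime Φ (Φ.map σ).reverse) : IsCoprime (Φ.map σ) Φ.reverse := by
  have h1 := h.map (Polynomial.mapRingHom σ)
  simp only [coe_mapRingHom] at h1
  have e1 : ((Φ.map σ).reverse).map σ = Φ.reverse := by
    ext n
    simp [coeff_reverse, natDegree_map_eq_of_injective σ.injective, Invol.invol]
  rwa [e1] at h1

set_option maxHeartbeats 800000 in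
/-- A block element with a factorisation in the general linear factor is a commutator. -/
theorem block_comm (he : e ≤ 1) {X : GL (Fin m) K} (hX : CFac σ e X.val) {v u : Iso σ m e}
    (hv : v ∈ radV σ m e) (hu : u ∈ radU σ m e) : IsComm (v * lev (X, 1) * u) := by
  obtain ⟨Φ, A, P, hA, hP, hΦ, hcp, ⟨hd0, hd1⟩, hvar⟩ := hX
  let a : GL (Fin m) K := GeneralLinearGroup.mk'' A (IsUnit.mk0 _ hA)
  let p : GL (Fin m) K := GeneralLinearGroup.mk'' P (by rw [hP]; exact isUnit_one)
  have hσd : σ A.det ≠ 0 := (map_ne_zero σ).2 hA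
  let β : Nz σ := ⟨Units.mk0 (σ A.det / A.det) (div_ne_zero hσd hA), by
    show σ A.det / A.det * σ (σ A.det / A.det) = 1
    rw [map_div₀, Invol.invol]
    field_simp⟩
  have hβ0 : cz β ≠ 0 := (β : Kˣ).ne_zero
  have hnoW : ∀ W : Matrix (Fin m) (Fin e) K, A * W = cz β • W → W = 0 := by
    intro W hW
    rcases Nat.eq_zero_or_pos e with rfl | hpos
    · ext i j; exact j.elim0
    have h1 := aeval_intertwine hW Φ
    rw [hΦ, Matrix.zero_mul, eq_comm, smul_eq_zero] at h1
    exact h1.resolve_left (hd1 (by omega))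
  have F1 : Free σ e a (cz β) := ⟨fun S hS => H31.Com.cross_zero hcp hΦ
    (show aeval (st σ A) (Φ.map σ) = 0 by rw [aeval_st, hΦ, st_zero]) hS, hnoW⟩
  have hFA : (trI σ a⁻¹).val = st σ A := rfl
  have F2 : Free σ e (trI σ a⁻¹) (cz β)⁻¹ := by
    refine ⟨fun S hS => ?_, fun W hW => ?_⟩
    · rw [hFA, st_st] at hS
      exact H31.Com.cross_zero (coprime_flip hcp) (by rw [aeval_st, hΦ, st_zero]) hΦ hS
    · rcases Nat.eq_zero_or_pos e with rfl | hpos
      · ext i j; exact j.elim0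
      have hσβ : σ (cz β)⁻¹ = cz β := by
        rw [map_inv₀]
        exact (eq_inv_of_mul_eq_one_left (cz_norm β)).symm
      rw [hFA] at hW
      have h0 : aeval (st σ A) (Φ.map σ) * W = (Φ.map σ).eval (cz β)⁻¹ • W := aeval_intertwine hW _
      rw [aeval_st, hΦ, st_zero, Matrix.zero_mul, eq_comm, smul_eq_zero] at h0
      refine h0.resolve_left fun h => hd1 (by omega) ?_
      show Φ.eval (cz β) = 0
      rw [← hσβ]
      apply σ.injective
      rw [map_zero, ← eval_map_apply, Invol.invol]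
      exact h
  have hfV : Free σ e (trI σ a) (cz β) := by
    have h1 := F2.inv (inv_ne_zero hβ0)
    have e1 : (trI σ a⁻¹)⁻¹ = trI σ a := by
      rw [inv_eq_iff_mul_eq_one, ← trI_mul, inv_mul_cancel]
      exact Units.ext (by simp [coe_trI, st_one])
    rwa [e1, inv_inv] at h1
  have hds : dt (lev (a, β) : Iso σ m e) = 1 := by
    rw [dt_lev]
    show A.det * (σ A.det)⁻¹ * (σ A.det / A.det) ^ e = 1
    rcases Nat.le_one_iff_eq_zero_or_eq_one.1 he with rfl | rfl
    · rw [pow_zero, mul_one, hd0 rfl, mul_inv_cancel₀ hA]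
    · rw [pow_one]; field_simp
  have hdp : dt (lev (p, 1) : Iso σ m e) = 1 := by
    rw [dt_lev]
    show P.det * (σ P.det)⁻¹ * (1 : K) ^ e = 1
    rw [hP, map_one, one_pow, inv_one, one_mul, one_mul]
  obtain ⟨B, c, hAB, hc, htp, hfU⟩ : ∃ (B : GL (Fin m) K) (c : Iso σ m e), a * B = X ∧ dt c = 1 ∧
      lev (B, β⁻¹) = c * (lev (a, β))⁻¹ * c⁻¹ ∧ Free σ e B (cz β⁻¹) := by
    have hcb : cz β⁻¹ = (cz β)⁻¹ := Units.val_inv_eq_inv_val _
    rcases hvar with hM | ⟨h2, hM⟩
    · refine ⟨p * a⁻¹ * p⁻¹, lev (p, 1), ?_, hdp, ?_, ?_⟩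
      · have hM' : X * p * a = a * p := Units.ext hM
        rw [← mul_assoc, ← mul_assoc, eq_comm, ← mul_left_inj p, ← mul_left_inj a, hM']
        group
      · rw [← map_inv, ← map_inv, ← map_mul, ← map_mul]
        simp
      · rw [hcb]; exact (F1.inv hβ0).conj p
    · refine ⟨p * trI σ a⁻¹ * p⁻¹, lev (p, 1) * wS σ m e, ?_, by rw [map_mul, hdp, dt_wS h2, one_mul], ?_, ?_⟩
      · have hM' : X * p = a * p * trI σ a⁻¹ := Units.ext (by
          show X.val * P = A * P * st σ A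
          exact hM)
        rw [← mul_assoc, ← mul_assoc, ← hM']
        group
      · calc (lev (p * trI σ a⁻¹ * p⁻¹, β⁻¹) : Iso σ m e)
            = lev (p, 1) * lev (trI σ a⁻¹, β⁻¹) * (lev (p, 1))⁻¹ := by
              rw [← map_inv, ← map_mul, ← map_mul]
              simp
          _ = lev (p, 1) * (wS σ m e * (lev (a, β))⁻¹ * (wS σ m e)⁻¹) * (lev (p, 1))⁻¹ := by
              rw [← conj_wS_lev, ← map_inv lev (a, β), Prod.inv_mk]
          _ = _ := by group
      · rw [hcb]; exact F2.conj p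
  have hst : lev (a, β) * lev (B, β⁻¹) = (lev (X, 1) : Iso σ m e) := by
    rw [← map_mul, Prod.mk_mul_mk, mul_inv_cancel, hAB]
  set s : Iso σ m e := lev (a, β)
  set t : Iso σ m e := lev (B, β⁻¹)
  obtain ⟨x, hx, hxe⟩ := exists_absorb (s := s) (fun w hw => lev_conj_V hw (a, β))
    (fun w hw h => lev_V_commute hw hfV h) hv
  obtain ⟨y, hy, hye⟩ := exists_absorb (s := t) (fun w hw => lev_conj_U hw (B, β⁻¹))
    (fun w hw h => lev_U_commute hw hfU h) (lev_conj_U hu (B, β⁻¹))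
  refine ⟨x * s * x⁻¹, y * c * x⁻¹, by rw [dt_conj, hds], ?_, ?_⟩
  · rw [map_mul, map_mul, dt_radU hy, hc, dt_radV (inv_mem hx), one_mul, one_mul]
  calc v * lev (X, 1) * u = (v * s) * (t * u * t⁻¹ * t) := by rw [← hst]; group
    _ = (x * s * x⁻¹) * (y * t * y⁻¹) := congrArg₂ (· * ·) hxe.symm hye.symm
    _ = _ := by rw [htp]; group

end H34.Uni
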