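import Cfsg.Agent.H34.Uni.Block
import Cfsg.Agent.H31.ClassSq.Shear

/-!
Norms and traces, the shear making the top block invertible, and the Siegel decomposition.
-/

set_option autoImplicit false
set_option linter.unusedSectionVars false

namespace H34.Uni

open Matrix hiding gram
open H31.Com.Uni

variable {K : Type*} [Field K] {σ : K →+* K} [Invol σ] {m e : ℕ}

/-! ### The field -/

theorem exists_trace_ne : ∃ w : K, w + σ w ≠ 0 := by
  by_contra h
  push Not at h
  obtain ⟨x, hx⟩ := Invol.nontriv (σ := σ)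
  have h1 := h 1
  rw [map_one] at h1
  refine hx ?_
  linear_combination h x - x * h1

theorem exists_trace_one : ∃ w : K, w + σ w = 1 := by
  obtain ⟨a, ha⟩ := exists_trace_ne (σ := σ)
  refine ⟨a / (a + σ a), ?_⟩
  rw [map_div₀, map_add, Invol.invol, add_comm (σ a) a, ← add_div, div_self ha]

theorem exists_skew : ∃ t : K, t ≠ 0 ∧ t + σ t = 0 := by
  obtain ⟨x, hx⟩ := Invol.nontriv (σ := σ)
  refine ⟨x - σ x, sub_ne_zero.2 (Ne.symm hx), ?_⟩
  rw [map_sub, Invol.invol]; ring

theorem exists_norm [Fintype K] {x : K} (hx : σ x = x) : ∃ ξ : K, ξ * σ ξ = x := by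
  by_cases hx0 : x = 0
  · exact ⟨0, by rw [hx0, zero_mul]⟩
  let τ : Kˣ →* Kˣ := Units.map (σ : K →* K)
  let N : Kˣ →* Kˣ := MonoidHom.id Kˣ * τ
  let D : Kˣ →* Kˣ := τ / MonoidHom.id Kˣ
  have hτ : ∀ y, ((τ y : Kˣ) : K) = σ (y : K) := fun _ => rfl
  have hN : ∀ y, ((N y : Kˣ) : K) = (y : K) * σ (y : K) := fun _ => rfl
  have hD : ∀ y, ((D y : Kˣ) : K) = σ (y : K) / (y : K) := fun y => by
    show ((τ y / y : Kˣ) : K) = _
    rw [Units.val_div_eq_div_val, hτ]
  have h1 : D.range = N.ker := by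
    ext z
    constructor
    · rintro ⟨y, rfl⟩
      refine Units.ext ?_
      rw [hN, hD, map_div₀, Invol.invol, Units.val_one]
      have : σ (y : K) ≠ 0 := (map_ne_zero σ).2 y.ne_zero
      field_simp
    · intro hz
      have hz' : (z : K) * σ (z : K) = 1 := by rw [← hN, show N z = 1 from hz, Units.val_one]
      obtain ⟨a, ha⟩ : ∃ a : K, a + σ (z : K) * σ a ≠ 0 := by
        by_contra h
        push Not at h
        obtain ⟨b, hb⟩ := Invol.nontriv (σ := σ)
        have h1 := h 1
        rw [map_one, mul_one] at h1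
        refine hb ?_
        linear_combination -(h b) + σ b * h1
      refine ⟨Units.mk0 _ ha, Units.ext ?_⟩
      rw [hD, Units.val_mk0, map_add, map_mul, Invol.invol, Invol.invol, div_eq_iff ha]
      linear_combination -(σ a) * hz'
  have h2 : N.range ≤ D.ker := by
    rintro _ ⟨y, rfl⟩
    refine Units.ext ?_
    rw [hD, hN, map_mul, Invol.invol, Units.val_one]
    have h3 : σ (y : K) ≠ 0 := (map_ne_zero σ).2 y.ne_zero
    field_simp
  have h4 : Nat.card N.range * Nat.card N.ker = Nat.card D.ker * Nat.card N.ker := by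
    have e1 := N.ker.card_mul_index
    have e2 := D.ker.card_mul_index
    rw [Subgroup.index_ker] at e1 e2
    rw [mul_comm, e1]
    conv_lhs => rw [← e2]
    rw [h1]
  have h5 : N.range = D.ker := Subgroup.eq_of_le_of_card_ge h2
    (Nat.eq_of_mul_eq_mul_right Nat.card_pos h4).ge
  have h6 : Units.mk0 x hx0 ∈ D.ker := Units.ext (by rw [hD, Units.val_mk0, hx, div_self hx0, Units.val_one])
  rw [← h5] at h6
  obtain ⟨y, hy⟩ := h6
  exact ⟨y, by rw [← hN, hy, Units.val_mk0]⟩

/-! ### At most one middle index -/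

theorem fin_sub (he : e ≤ 1) (i j : Fin e) : i = j := Fin.ext (by omega)

theorem mid_scalar (he : e ≤ 1) (Z : Matrix (Fin e) (Fin e) K) :
    ∃ c : K, Z = c • 1 := by
  rcases Nat.le_one_iff_eq_zero_or_eq_one.1 he with rfl | rfl
  · exact ⟨1, by ext i; exact i.elim0⟩
  · refine ⟨Z 0 0, ?_⟩
    ext i j
    rw [Subsingleton.elim i 0, Subsingleton.elim j 0, Matrix.smul_apply, Matrix.one_apply_eq, smul_eq_mul, mul_one]

theorem aniso {ι : Type*} (he : e ≤ 1) {W : Matrix (Fin e) ι K} (h : st σ W * W = 0) : W = 0 := by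
  ext i j
  have h1 := congrFun (congrFun h j) j
  rw [Matrix.mul_apply, Finset.sum_eq_single i (fun k _ hk => absurd (fin_sub he k i) hk) (by simp), st_apply,
    Matrix.zero_apply, mul_eq_zero, map_eq_zero, or_self] at h1
  rw [h1, Matrix.zero_apply]

/-! ### The shear -/

theorem exists_herm_shear {A C : Matrix (Fin m) (Fin m) K}
    (hker : ∀ x : Matrix (Fin m) (Fin 1) K, A * x = 0 → C * x = 0 → x = 0) (hq : st σ C * A + st σ A * C = 0) :
    ∃ T : Matrix (Fin m) (Fin m) K, T + st σ T = 0 ∧ IsUnit (A + T * C).det := by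
  classical
  obtain ⟨P, Q, hP, hQ, d, hd⟩ := H31.CSQ.exists_diag C
  have hPi : P⁻¹ * P = 1 := nonsing_inv_mul _ hP
  set A' := st σ P⁻¹ * A * Q with hA'
  have hskew : ∀ i j, σ (d i) * A' i j + σ (A' j i) * d j = 0 := by
    intro i j
    have h1 : st σ (diagonal d) * A' + st σ A' * diagonal d = 0 := by
      have e1 : st σ (P * C * Q) * A' = st σ Q * (st σ C * A) * Q := by
        rw [hA']
        simp only [st_mul, Matrix.mul_assoc]
        rw [← Matrix.mul_assoc (st σ P), ← st_mul, hPi, st_one, Matrix.one_mul]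
      have e2 : st σ A' * (P * C * Q) = st σ Q * (st σ A * C) * Q := by
        rw [hA']
        simp only [st_mul, st_st, Matrix.mul_assoc]
        rw [← Matrix.mul_assoc P⁻¹, hPi, Matrix.one_mul]
      rw [← hd, e1, e2, ← Matrix.add_mul, ← Matrix.mul_add, hq, Matrix.mul_zero, Matrix.zero_mul]
    have h2 := congrFun (congrFun h1 i) j
    rw [Matrix.add_apply, mul_diagonal, st_apply, Matrix.zero_apply,
      show st σ (diagonal d) = diagonal (fun k => σ (d k)) by
        rw [st, diagonal_map (map_zero σ), diagonal_transpose], diagonal_mul] at h2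
    exact h2
  have hzero : ∀ i j, d i ≠ 0 → d j = 0 → A' i j = 0 := fun i j hi hj => by
    have h1 := hskew i j
    rw [hj, mul_zero, add_zero, mul_eq_zero, map_eq_zero] at h1
    exact h1.resolve_left hi
  obtain ⟨t, ht0, ht⟩ := exists_skew (σ := σ)
  let T₀ : Matrix (Fin m) (Fin m) K := Matrix.of fun i j =>
    if d i ≠ 0 ∧ d j ≠ 0 then ((if i = j then t else 0) - σ (d i) * A' i j) / (σ (d i) * d j) else 0
  have hT₀ : T₀ + st σ T₀ = 0 := by
    ext i j
    rw [Matrix.add_apply, st_apply, Matrix.zero_apply]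
    simp only [T₀, Matrix.of_apply]
    by_cases hij : d i ≠ 0 ∧ d j ≠ 0
    · simp only [hij.1, hij.2, ne_eq, not_false_eq_true, and_self, if_true]
      rw [map_div₀, map_sub, map_mul, map_mul, Invol.invol]
      have h1 : σ (d i) ≠ 0 := (map_ne_zero σ).2 hij.1
      have h3 := hij.2
      by_cases h : i = j
      · subst h
        simp only [if_true]
        field_simp
        linear_combination ht - hskew i i
      · rw [if_neg h, if_neg (Ne.symm h), map_zero]
        field_simp
        linear_combination -(hskew i j)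
    · rw [if_neg hij, if_neg (fun h => hij ⟨h.2, h.1⟩), map_zero, add_zero]
  have hrow : ∀ i j, (A' + T₀ * diagonal d) i j =
      if d i = 0 then A' i j else if i = j then t / σ (d i) else 0 := by
    intro i j
    rw [Matrix.add_apply, mul_diagonal]
    simp only [T₀, Matrix.of_apply]
    by_cases hi : d i = 0
    · rw [if_neg (fun h => h.1 hi), if_pos hi, zero_mul, add_zero]
    rw [if_neg hi]
    by_cases hj : d j = 0
    · rw [if_neg (fun h => h.2 hj), if_neg (fun h : i = j => hi (h ▸ hj)), zero_mul, add_zero, hzero i j hi hj]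
    · rw [if_pos ⟨hi, hj⟩]
      have h1 : σ (d i) ≠ 0 := (map_ne_zero σ).2 hi
      split_ifs with h <;> field_simp <;> ring
  have hu : IsUnit (A' + T₀ * diagonal d).det := by
    refine mulVec_injective_iff_isUnit.trans (isUnit_iff_isUnit_det _) |>.1 fun x y hxy => ?_
    rw [← sub_eq_zero]
    have hz : (A' + T₀ * diagonal d) *ᵥ (x - y) = 0 := by rw [mulVec_sub]; exact sub_eq_zero.2 hxy
    generalize x - y = z at hz ⊢
    have hs : ∀ i, d i ≠ 0 → z i = 0 := fun i hi => by
      have h1 := congrFun hz i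
      simp only [mulVec, dotProduct, Pi.zero_apply] at h1
      rw [Finset.sum_eq_single i (fun k _ hk => by rw [hrow, if_neg hi, if_neg (Ne.symm hk), zero_mul])
        (by simp), hrow, if_neg hi, if_pos rfl, mul_eq_zero] at h1
      exact h1.resolve_left (div_ne_zero ht0 ((map_ne_zero σ).2 hi))
    set w : Matrix (Fin m) (Fin 1) K := Matrix.of fun i _ => z i with hw
    have hA'w : A' * w = 0 := by
      ext i j
      rw [Matrix.mul_apply, Matrix.zero_apply]
      by_cases hi : d i = 0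
      · refine Eq.trans ?_ (congrFun hz i)
        simp only [mulVec, dotProduct, hw, Matrix.of_apply]
        exact Finset.sum_congr rfl fun k _ => by rw [hrow, if_pos hi]
      · refine Finset.sum_eq_zero fun k _ => ?_
        by_cases hk : d k = 0
        · rw [hzero i k hi hk, zero_mul]
        · simp [hw, hs k hk]
    have hDw : P * C * Q * w = 0 := by
      rw [hd]
      ext i j
      rw [diagonal_mul, Matrix.zero_apply]
      by_cases hi : d i = 0
      · rw [hi, zero_mul]
      · simp [hw, hs i hi]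
    have hQw : Q * w = 0 := by
      refine hker _ ?_ ?_
      · have h := congrArg (st σ P * ·) hA'w
        simp only [Matrix.mul_zero, hA', ← Matrix.mul_assoc, ← st_mul, hPi, st_one, Matrix.one_mul] at h
        rw [← Matrix.mul_assoc]; exact h
      · have h := congrArg (P⁻¹ * ·) hDw
        simp only [Matrix.mul_zero, ← Matrix.mul_assoc, hPi, Matrix.one_mul] at h
        rw [← Matrix.mul_assoc]; exact h
    have hw0 : w = 0 := by
      have h := congrArg (Q⁻¹ * ·) hQw
      simpa [← Matrix.mul_assoc, nonsing_inv_mul _ hQ] using h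
    funext i
    exact congrFun (congrFun hw0 i) 0
  refine ⟨st σ P * T₀ * P, ?_, ?_⟩
  · rw [st_mul, st_mul, st_st, ← Matrix.mul_assoc, ← Matrix.add_mul, ← Matrix.mul_add, hT₀, Matrix.mul_zero,
      Matrix.zero_mul]
  · have e1 : A' + T₀ * diagonal d = st σ P⁻¹ * (A + st σ P * T₀ * P * C) * Q := by
      have h0 : st σ P⁻¹ * st σ P = 1 := by rw [← st_mul, mul_nonsing_inv _ hP, st_one]
      rw [hA', ← hd, Matrix.mul_add, Matrix.add_mul]
      simp only [← Matrix.mul_assoc, h0, Matrix.one_mul]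
    rw [e1, det_mul, det_mul] at hu
    exact isUnit_of_mul_isUnit_right (isUnit_of_mul_isUnit_left hu)

theorem exists_factor {C : Matrix (Fin m) (Fin m) K} {W : Matrix (Fin e) (Fin m) K}
    (h : ∀ x : Matrix (Fin m) (Fin 1) K, C * x = 0 → W * x = 0) : ∃ V : Matrix (Fin e) (Fin m) K, V * C = W := by
  classical
  obtain ⟨P, Q, hP, hQ, d, hd⟩ := H31.CSQ.exists_diag C
  refine ⟨W * Q * diagonal (fun i => (d i)⁻¹) * P, ?_⟩
  have h2 : W * Q * diagonal (fun i => (d i)⁻¹) * P * C * Q = W * Q := by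
    have e1 : W * Q * diagonal (fun i => (d i)⁻¹) * P * C * Q = W * Q * diagonal (fun i => (d i)⁻¹) * (P * C * Q) := by
      simp only [Matrix.mul_assoc]
    rw [e1, hd, Matrix.mul_assoc _ (diagonal _), diagonal_mul_diagonal]
    ext i j
    rw [mul_diagonal]
    by_cases hj : d j = 0
    · let x : Matrix (Fin m) (Fin 1) K := Matrix.of fun k _ => Q k j
      have hx : P * (C * x) = 0 := by
        ext k l
        rw [Matrix.zero_apply, ← Matrix.mul_assoc]
        show (P * C * x) k l = 0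
        have : (P * C * x) k l = (P * C * Q) k j := by simp [Matrix.mul_apply, x]
        rw [this, hd]
        by_cases hk : k = j
        · rw [hk, diagonal_apply_eq, hj]
        · rw [diagonal_apply_ne _ hk]
      have hCx : C * x = 0 := by
        have h3 := congrArg (P⁻¹ * ·) hx
        simpa [← Matrix.mul_assoc, nonsing_inv_mul _ hP] using h3
      have hWx : (W * Q) i j = 0 := by
        have h4 : (W * x) i 0 = 0 := by rw [h x hCx]; rfl
        simpa [Matrix.mul_apply, x] using h4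
      rw [hWx, zero_mul]
    · rw [inv_mul_cancel₀ hj, mul_one]
  have h3 := congrArg (· * Q⁻¹) h2
  simpa [Matrix.mul_assoc, mul_nonsing_inv _ hQ] using h3

/-! ### The decomposition -/

/-- The top block. -/
def top (g : Iso σ m e) : Matrix (Fin m) (Fin m) K := (mx g).toBlocks₁₁.toBlocks₁₁

theorem top_mat3 {g : Iso σ m e} {A B C D : Matrix (Fin m) (Fin m) K} {P Q : Matrix (Fin m) (Fin e) K}
    {W V : Matrix (Fin e) (Fin m) K} {Z : Matrix (Fin e) (Fin e) K} (h : mx g = mat3 A B C D P Q W V Z) :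
    top g = A := by
  rw [top, h, mat3, toBlocks_fromBlocks₁₁, toBlocks_fromBlocks₁₁]

variable [Fintype K]

theorem top_mul_radU (g : Iso σ m e) {u : Iso σ m e} (hu : u ∈ radU σ m e) : top (g * u) = top g := by
  obtain ⟨S, P, R, hu⟩ := hu
  have hg := eq_mat3 (mx g)
  rw [top_mat3 hg, top_mat3 (g := g * u) (by rw [mx_mul, hg, hu, mat3_mul])]
  simp

set_option maxHeartbeats 800000 in
theorem invert (he : e ≤ 1) (g : Iso σ m e) : ∃ u ∈ radU σ m e, IsUnit (top (u * g)).det := by
  obtain ⟨A, B, C, D, P, Q, W, V', Z, hg⟩ : ∃ A B C D P Q W V Z, mx g = mat3 A B C D P Q W V Z :=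
    ⟨_, _, _, _, _, _, _, _, _, eq_mat3 _⟩
  obtain ⟨r1, -⟩ := rels g hg
  have hkerW : ∀ x : Matrix (Fin m) (Fin 1) K, C * x = 0 → W * x = 0 := fun x hx => by
    refine aniso (σ := σ) he ?_
    have h1 := congrArg (fun M => st σ x * M * x) r1
    simp only [Matrix.mul_add, Matrix.add_mul, Matrix.mul_zero, Matrix.zero_mul, ← Matrix.mul_assoc] at h1
    rw [Matrix.mul_assoc (st σ x * st σ A) C x, hx, Matrix.mul_zero, add_zero, ← st_mul, hx, st_zero,
      Matrix.zero_mul, Matrix.zero_mul, zero_add, ← st_mul, Matrix.mul_assoc] at h1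
    exact h1
  obtain ⟨V, hV⟩ := exists_factor hkerW
  obtain ⟨w, hw⟩ := exists_trace_one (σ := σ)
  set T₁ := w • (st σ V * V) with hT₁
  have hsT : T₁ + st σ T₁ = st σ V * V := by
    rw [hT₁, st_smul, st_mul, st_st, ← add_smul, hw, one_smul]
  have hker : ∀ x : Matrix (Fin m) (Fin 1) K, (A + T₁ * C) * x = 0 → C * x = 0 → x = 0 := by
    intro x h1 h2
    have h3 := hkerW x h2
    rw [Matrix.add_mul, Matrix.mul_assoc, h2, Matrix.mul_zero, add_zero] at h1
    ext i j
    have hinj := mulVec_injective_iff_isUnit.2 (g : GL (Idx m e) K).isUnit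
    have h4 : mx g *ᵥ Sum.elim (Sum.elim (fun k => x k j) 0) 0 = mx g *ᵥ 0 := by
      rw [mulVec_zero, hg]
      funext k
      rcases k with (k | k) | k <;> simp [mat3, mulVec, dotProduct, Fintype.sum_sum_type]
      · exact congrFun (congrFun h1 k) j
      · exact congrFun (congrFun h2 k) j
      · exact congrFun (congrFun h3 k) j
    exact congrFun (hinj h4) (Sum.inl (Sum.inl i))
  have hq : st σ C * (A + T₁ * C) + st σ (A + T₁ * C) * C = 0 := by
    rw [← r1, ← hV]
    simp only [st_add, st_mul, Matrix.mul_add, Matrix.add_mul, Matrix.mul_assoc]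
    rw [← Matrix.mul_assoc (st σ V) V C, ← hsT, Matrix.add_mul, Matrix.mul_add]
    abel
  obtain ⟨T, hT, hu⟩ := exists_herm_shear hker hq
  have hp : MPair σ (-V) (T₁ + T - st σ V * V) := by
    rw [MPair, st_sub, st_add, st_mul, st_st, st_neg, Matrix.neg_mul, Matrix.mul_neg, neg_neg]
    linear_combination (norm := abel) hsT + hT
  refine ⟨up _ _ hp, up_mem hp, ?_⟩
  have e1 : top (up _ _ hp * g) = A + T₁ * C + T * C := by
    rw [top_mat3 (g := up _ _ hp * g) (by rw [mx_mul, mx_up, hg, mat3_mul]), ← hV, st_neg, neg_neg]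
    simp only [Matrix.one_mul, Matrix.sub_mul, Matrix.add_mul, Matrix.mul_assoc]
    abel
  rwa [e1]

set_option maxHeartbeats 800000 in
/-- The Siegel decomposition. -/
theorem decomp (he : e ≤ 1) (g : Iso σ m e) (hA : IsUnit (top g).det) :
    ∃ v ∈ radV σ m e, ∃ (X : GL (Fin m) K) (c : Nz σ) (u : Iso σ m e), u ∈ radU σ m e ∧
      g = v * lev (X, c) * u ∧ X.val = top g := by
  obtain ⟨A, B, C, D, P, Q, W, V, Z, hg⟩ : ∃ A B C D P Q W V Z, mx g = mat3 A B C D P Q W V Z :=
    ⟨_, _, _, _, _, _, _, _, _, eq_mat3 _⟩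
  rw [top_mat3 hg] at hA ⊢
  obtain ⟨r1, -⟩ := rels g hg
  have hAi : A * A⁻¹ = 1 := mul_nonsing_inv _ hA
  have hp : MPair σ (W * A⁻¹) (C * A⁻¹) := by
    have h := congrArg (fun M => st σ A⁻¹ * M * A⁻¹) r1
    simp only [Matrix.mul_add, Matrix.add_mul, Matrix.mul_zero, Matrix.zero_mul, ← Matrix.mul_assoc, ← st_mul,
      hAi, st_one, Matrix.one_mul] at h
    rw [Matrix.mul_assoc _ A, hAi, Matrix.mul_one, Matrix.mul_assoc (st σ (W * A⁻¹)) W] at h
    rw [MPair, ← h]; abel
  set v := lo _ _ hp with hv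
  obtain ⟨A', B', C', D', P', Q', W', V', Z', hh⟩ :
      ∃ A B C D P Q W V Z, mx (v⁻¹ * g) = mat3 A B C D P Q W V Z := ⟨_, _, _, _, _, _, _, _, _, eq_mat3 _⟩
  have e1 : mx g = mx v * mx (v⁻¹ * g) := by rw [← mx_mul, mul_inv_cancel_left]
  rw [hg, hh, hv, mx_lo, mat3_mul, mat3_inj] at e1
  simp only [Matrix.one_mul, Matrix.zero_mul, add_zero, zero_add] at e1
  obtain ⟨eA, -, eC, -, -, -, eW, -⟩ := e1
  have hA' : C * A⁻¹ * A = C := by rw [Matrix.mul_assoc, nonsing_inv_mul _ hA, Matrix.mul_one]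
  have hW' : W' = 0 := by
    rw [← eA, Matrix.mul_assoc, nonsing_inv_mul _ hA, Matrix.mul_one] at eW
    exact left_eq_add.1 eW
  have hC' : C' = 0 := by
    rw [← eA, hA', hW', Matrix.mul_zero, add_zero] at eC
    exact left_eq_add.1 eC
  obtain rfl := eA
  subst hW' hC'
  obtain ⟨-, q2, -, -, q5, -, -, -, q9⟩ := rels _ hh
  simp only [st_zero, Matrix.zero_mul, zero_add, add_zero, Matrix.mul_zero] at q2 q5 q9
  let X : GL (Fin m) K := GeneralLinearGroup.mk'' A hA
  have hXs : st σ (X⁻¹ : GL (Fin m) K).val * st σ A = 1 := by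
    rw [← st_mul, show A * (X⁻¹ : GL (Fin m) K).val = 1 from X.mul_inv, st_one]
  have hD : D' = (trI σ X).val := by
    rw [coe_trI, ← Matrix.mul_one (st σ (X⁻¹ : GL (Fin m) K).val), ← q2, ← Matrix.mul_assoc, hXs, Matrix.one_mul]
  have hQ : Q' = 0 := by
    rw [← Matrix.one_mul Q', ← hXs, Matrix.mul_assoc, q5, Matrix.mul_zero]
  subst hQ
  simp only [st_zero, Matrix.zero_mul, Matrix.mul_zero, zero_add] at q9
  obtain ⟨c, hZ⟩ : ∃ c : Nz σ, Z' = cz c • 1 := by
    obtain ⟨c, hc⟩ := mid_scalar he Z'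
    rcases Nat.le_one_iff_eq_zero_or_eq_one.1 he with rfl | rfl
    · exact ⟨1, by ext i; exact i.elim0⟩
    · rw [hc, st_smul, st_one, Matrix.smul_mul, Matrix.one_mul, smul_smul] at q9
      have h1 := congrFun (congrFun q9 0) 0
      rw [Matrix.smul_apply, Matrix.one_apply_eq, smul_eq_mul, mul_one, mul_comm] at h1
      exact ⟨⟨Units.mk0 c (fun h0 => by simp [h0] at h1), h1⟩, hc⟩
  refine ⟨v, lo_mem hp, X, c, (lev (X, c))⁻¹ * (v⁻¹ * g), ?_, by group, rfl⟩
  refine ⟨(X⁻¹ : GL (Fin m) K).val * B', (X⁻¹ : GL (Fin m) K).val * P', (cz c)⁻¹ • V', ?_⟩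
  rw [← map_inv, Prod.inv_mk, mx_mul, mx_lev, hh, hD, hZ, mat3_mul]
  have hcz : cz c⁻¹ = (cz c)⁻¹ := Units.val_inv_eq_inv_val _
  have hX1 : (X⁻¹ : GL (Fin m) K).val * A = 1 := X.inv_mul
  have hX2 : (trI σ X⁻¹).val * (trI σ X).val = 1 := by
    rw [← Units.val_mul, ← trI_mul, inv_mul_cancel, coe_trI, inv_one, Units.val_one, st_one]
  have hc0 : cz c ≠ 0 := (c : Kˣ).ne_zero
  simp [hcz, hX2, smul_smul, hc0]
  rw [← coe_units_inv, hX1]

end H34.Uni
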