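import Cfsg.Agent.H31.Unitary.Defs
import Cfsg.Agent.H51.Herm

/-!
From the hyperbolic model to `SU_n` for the standard form.
-/

set_option autoImplicit false

namespace H34.Uni

open Matrix hiding gram
open H31.Com.Uni

variable {F : Type*} [Field F] [Fintype F] {q : ℕ}

theorem invol_qFrob (hF : Fintype.card F = q ^ 2) : Invol (H51.qFrob hF) :=
  ⟨H51.qFrob_qFrob hF, by
    obtain ⟨θ, -, h⟩ := H51.exists_theta hF
    exact ⟨θ, fun e => h (sub_eq_zero.2 (by simpa using e.symm))⟩⟩

theorem mem_SU_iff (hF : Fintype.card F = q ^ 2) {n : ℕ} (g : Matrix.SpecialLinearGroup (Fin n) F) :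
    g ∈ Cfsg.SU n F q ↔ g.valᵀ * g.val.map (H51.qFrob hF) = 1 := by
  show (∀ u v, Cfsg.hermForm n F q (g.val *ᵥ u) (g.val *ᵥ v) = Cfsg.hermForm n F q u v) ↔ _
  simp only [H51.hermForm_mulVec hF, H51.hermForm_eq]
  constructor
  · intro h
    ext i j
    have h1 := h (Pi.single i 1) (Pi.single j 1)
    have hs : (fun k => (Pi.single j (1 : F) : Fin n → F) k ^ q) = Pi.single j 1 := by
      funext k
      rcases eq_or_ne k j with rfl | hk <;> simp [*, (H51.q_pos hF).ne']
    rw [hs, single_one_dotProduct, single_one_dotProduct, Matrix.mulVec_single_one] at h1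
    simpa [Matrix.one_apply, Pi.single_apply] using h1
  · intro h u v; rw [h, Matrix.one_mulVec]

/-- The transfer to the standard model. -/
theorem su_comm_of_model (hF : Fintype.card F = q ^ 2) {n m e : ℕ} (hn : n = 2 * m + e)
    (h : AllComm (H51.qFrob hF) m e) :
    ∀ g : Cfsg.SU n F q, ∃ a b : Cfsg.SU n F q, g = a * b * a⁻¹ * b⁻¹ := by
  classical
  set σ := H51.qFrob hF
  set G := gram m e F
  have hGt : Gᵀ = G := by
    ext i j
    rcases i with (i | i) | i <;> rcases j with (j | j) | j <;> simp [G, gram, Matrix.one_apply, eq_comm]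
  have hGG : G * G = 1 := by simp [G, gram, fromBlocks_multiply, fromBlocks_one]
  have hGs : H51.adj hF G = G := by
    ext i j
    rw [H51.adj_apply]
    rcases i with (i | i) | i <;> rcases j with (j | j) | j <;>
      simp [G, gram, Matrix.one_apply, eq_comm, (H51.q_pos hF).ne']
  obtain ⟨c, hcu, hc⟩ := H51.exists_adj_mul_self hF hGs ⟨⟨G, G, hGG, hGG⟩, rfl⟩
  have hc' : cᵀ * c.map σ = G := by
    rw [← hGt, ← hc, H51.adj, transpose_mul, transpose_transpose]
  set u : (Matrix (Idx m e) (Idx m e) F)ˣ := hcu.unit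
  have huv : u.val = c := rfl
  let ev : Idx m e ≃ Fin n := Fintype.equivFinOfCardEq (by simp [hn]; omega)
  have key : ∀ A B : Matrix (Idx m e) (Idx m e) F,
      Matrix.reindex ev ev A * Matrix.reindex ev ev B = Matrix.reindex ev ev (A * B) := fun A B => by
    simp [Matrix.reindex_apply, Matrix.submatrix_mul_equiv]
  let f : Model σ m e →* Cfsg.SU n F q :=
    { toFun := fun a => ⟨⟨Matrix.reindex ev ev (u.val * a.1.val * u⁻¹.val), by
        rw [det_reindex_self, det_mul, det_mul, a.2.1, mul_one, ← det_mul, u.mul_inv, det_one]⟩, by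
        refine (mem_SU_iff hF _).2 ?_
        show (Matrix.reindex ev ev (u.val * a.1.val * u⁻¹.val))ᵀ *
          (Matrix.reindex ev ev (u.val * a.1.val * u⁻¹.val)).map σ = 1
        rw [transpose_reindex, Matrix.reindex_apply ev ev (u.val * a.1.val * u⁻¹.val), ← submatrix_map,
          ← Matrix.reindex_apply, key]
        have h1 : (u.val * a.1.val * u⁻¹.val)ᵀ * (u.val * a.1.val * u⁻¹.val).map σ = 1 := by
          calc (u.val * a.1.val * u⁻¹.val)ᵀ * (u.val * a.1.val * u⁻¹.val).map σ
              = (u⁻¹.val)ᵀ * (a.1.valᵀ * (u.valᵀ * u.val.map σ) * a.1.val.map σ) * u⁻¹.val.map σ := by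
                simp only [transpose_mul, Matrix.map_mul, Matrix.mul_assoc]
            _ = (u⁻¹.val)ᵀ * (u.valᵀ * u.val.map σ) * u⁻¹.val.map σ := by
                rw [huv, hc']; exact congrArg (fun M => (u⁻¹.val)ᵀ * M * u⁻¹.val.map σ) a.2.2
            _ = (u.val * u⁻¹.val)ᵀ * (u.val * u⁻¹.val).map σ := by
                simp only [transpose_mul, Matrix.map_mul, Matrix.mul_assoc]
            _ = 1 := by rw [u.mul_inv, transpose_one, Matrix.map_one σ (map_zero σ) (map_one σ), Matrix.one_mul]
        rw [h1]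
        simp [Matrix.reindex_apply, submatrix_one_equiv]⟩
      map_one' := Subtype.ext (Subtype.ext (by simp [Matrix.reindex_apply, submatrix_one_equiv]))
      map_mul' := fun a b => Subtype.ext (Subtype.ext (by
        show Matrix.reindex ev ev _ = Matrix.reindex ev ev _ * Matrix.reindex ev ev _
        rw [key]
        congr 1
        simp only [Subgroup.coe_mul, Units.val_mul, Matrix.mul_assoc]
        rw [← Matrix.mul_assoc u⁻¹.val u.val, u.inv_mul, Matrix.one_mul])) }
  intro g
  set N := Matrix.reindex ev.symm ev.symm (g.1.val) with hN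
  have hgm : N.det = 1 := by rw [hN, det_reindex_self]; exact g.1.2
  have hgf : Nᵀ * N.map σ = 1 := by
    have h1 := (mem_SU_iff hF g.1).1 g.2
    rw [hN, transpose_reindex, Matrix.reindex_apply, Matrix.reindex_apply, ← submatrix_map, submatrix_mul_equiv, h1,
      submatrix_one_equiv]
  let M : (Matrix (Idx m e) (Idx m e) F)ˣ := u⁻¹ * GeneralLinearGroup.mk'' N (by rw [hgm]; exact isUnit_one) * u
  have hMv : M.val = u⁻¹.val * N * u.val := rfl
  have hM : M ∈ Model σ m e := by
    refine ⟨by rw [hMv, det_mul, det_mul, hgm, mul_one, ← det_mul, u.inv_mul, det_one], ?_⟩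
    rw [hMv]
    show _ = G
    calc (u⁻¹.val * N * u.val)ᵀ * G * (u⁻¹.val * N * u.val).map σ
        = u.valᵀ * (Nᵀ * ((u⁻¹.val)ᵀ * (u.valᵀ * u.val.map σ) * u⁻¹.val.map σ) * N.map σ) * u.val.map σ := by
          rw [show G = u.valᵀ * u.val.map σ from hc'.symm]
          simp only [transpose_mul, Matrix.map_mul, Matrix.mul_assoc]
      _ = u.valᵀ * (Nᵀ * ((u.val * u⁻¹.val)ᵀ * (u.val * u⁻¹.val).map σ) * N.map σ) * u.val.map σ := by
          simp only [transpose_mul, Matrix.map_mul, Matrix.mul_assoc]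
      _ = G := by
          rw [u.mul_inv, transpose_one, Matrix.map_one σ (map_zero σ) (map_one σ), Matrix.one_mul, Matrix.mul_one,
            hgf, Matrix.mul_one]
          exact hc'
  obtain ⟨a, b, hab⟩ := h ⟨M, hM⟩
  refine ⟨f a, f b, ?_⟩
  have hfg : f ⟨M, hM⟩ = g := by
    refine Subtype.ext (Subtype.ext ?_)
    show Matrix.reindex ev ev (u.val * M.val * u⁻¹.val) = g.1.val
    rw [hMv, show u.val * (u⁻¹.val * N * u.val) * u⁻¹.val = (u.val * u⁻¹.val) * N * (u.val * u⁻¹.val) by
      simp only [Matrix.mul_assoc], u.mul_inv, Matrix.one_mul, Matrix.mul_one, hN]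
    simp
  rw [← hfg, hab]
  simp only [map_mul, map_inv]

end H34.Uni
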