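import Cfsg.Agent.H34.Uni.Main
import Cfsg.Agent.H34.Uni.Transfer
import Cfsg.Agent.H85.Uni.Central

/-!
Every element of `SU_n(q)` is a commutator, granted the factorisations in the general linear factor.
-/

set_option autoImplicit false

namespace H34.Uni

open H31.Com.Uni

variable {K : Type*} [Field K] [Fintype K] {σ : K →+* K} [Invol σ] {q m e : ℕ}

theorem all_comm (hF : Fintype.card K = q ^ 2) (hσ : ∀ x, σ x = x ^ q) (he : e ≤ 1) (hm : 2 ≤ m)
    (h : SLFacU σ m e) : AllComm σ m e :=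
  all_comm_of_central he hm (H85.Uni.central_comm hF hσ (by omega)) h

theorem all_comm_one (hF : Fintype.card K = q ^ 2) (hσ : ∀ x, σ x = x ^ q)
    (h : CFac σ 1 (1 : Matrix (Fin 1) (Fin 1) K)) : AllComm σ 1 1 :=
  all_comm_one_of_central (H85.Uni.central_comm hF hσ (by omega)) h

/-- The reduction of the statement for `SU_n(q)` to the two factorisation facts. -/
theorem su_all_comm {F : Type*} [Field F] [Fintype F] {n q : ℕ} (hn : 3 ≤ n) (hF : Fintype.card F = q ^ 2)
    (hbig : ∀ m e : ℕ, 2 ≤ m → e ≤ 1 → n = 2 * m + e → SLFacU (H51.qFrob hF) m e)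
    (hone : n = 3 → CFac (H51.qFrob hF) 1 (1 : Matrix (Fin 1) (Fin 1) F)) :
    ∀ g : Cfsg.SU n F q, ∃ a b : Cfsg.SU n F q, g = a * b * a⁻¹ * b⁻¹ := by
  letI : Invol (H51.qFrob hF) := invol_qFrob hF
  have hσ : ∀ x, H51.qFrob hF x = x ^ q := fun x => rfl
  by_cases h3 : n = 3
  · exact su_comm_of_model hF (m := 1) (e := 1) (by omega) (all_comm_one hF hσ (hone h3))
  · exact su_comm_of_model hF (m := n / 2) (e := n % 2) (by omega)
      (all_comm hF hσ (by omega) (by omega) (hbig _ _ (by omega) (by omega) (by omega)))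

end H34.Uni
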