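import Cfsg.Agent.H34.Uni.Moves

/-!
Every element of the special unitary group is a commutator, granted factorisations in `SL_m` and the scalar case.
-/

set_option autoImplicit false
set_option linter.unusedSectionVars false

namespace H34.Uni

open Matrix hiding gram
open H31.Com.Uni

variable {K : Type*} [Field K] [Fintype K] {σ : K →+* K} [Invol σ] {m e : ℕ}

theorem dt_parts {g v u : Iso σ m e} {X : GL (Fin m) K} {c : Nz σ} (hv : v ∈ radV σ m e) (hu : u ∈ radU σ m e)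
    (eg : g = v * lev (X, c) * u) : dt g = dt (lev (X, c) : Iso σ m e) := by
  rw [eg, map_mul, map_mul, dt_radV hv, dt_radU hu, one_mul, mul_one]

theorem mid_one (he : e ≤ 1) {g v u : Iso σ m e} {X : GL (Fin m) K} {c : Nz σ} (hv : v ∈ radV σ m e)
    (hu : u ∈ radU σ m e) (hg : dt g = 1) (hX : X.val.det = 1) (eg : g = v * lev (X, c) * u) :
    g = v * lev (X, 1) * u := by
  have h1 := (dt_parts hv hu eg).symm.trans hg
  rw [dt_lev, hX, map_one, inv_one, one_mul, one_mul] at h1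
  have h2 : (lev (X, c) : Iso σ m e) = lev (X, 1) := by
    refine mx_ext ?_
    rw [mx_lev, mx_lev]
    congr 1
    rcases Nat.le_one_iff_eq_zero_or_eq_one.1 he with rfl | rfl
    · ext i; exact i.elim0
    · rw [pow_one] at h1
      rw [h1]; rfl
  rwa [h2] at eg

theorem scalar_of_eigen (hm : 1 ≤ m) {A : Matrix (Fin m) (Fin m) K} (h : ∀ k : Col K m, ∃ μ : K, A * k = μ • k) :
    ∃ ν : K, A = ν • 1 := by
  set i0 : Fin m := ⟨0, hm⟩
  let δ : Fin m → Col K m := fun i => Matrix.of fun l _ => if l = i then 1 else 0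
  choose μ hμ using fun i => h (δ i)
  have hentry : ∀ i l, A l i = if l = i then μ i else 0 := fun i l => by
    have h1 := congrFun (congrFun (hμ i) l) 0
    simpa [δ, Matrix.mul_apply] using h1
  refine ⟨μ i0, Matrix.ext fun l i => ?_⟩
  rw [hentry i l, Matrix.smul_apply, Matrix.one_apply, smul_eq_mul, mul_ite, mul_one, mul_zero]
  split_ifs with hli
  · by_cases hi : i = i0
    · rw [hi]
    obtain ⟨ν, hν⟩ := h (δ i + δ i0)
    rw [Matrix.mul_add, hμ, hμ] at hν
    have h1 := congrFun (congrFun hν i) 0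
    have h2 := congrFun (congrFun hν i0) 0
    simp [δ, hi, Ne.symm hi] at h1 h2
    rw [h1, h2]
  · rfl

theorem central (hm : 1 ≤ m) (he : e ≤ 1) {X : GL (Fin m) K} {c : Nz σ}
    (h : ∀ u ∈ radU σ m e, Commute (lev (X, c) : Iso σ m e) u) :
    ∃ z : K, mx (lev (X, c) : Iso σ m e) = z • 1 := by
  have hc : ∀ (R : Matrix (Fin e) (Fin m) K) (S : Matrix (Fin m) (Fin m) K), MPair σ R S →
      X.val * S = S * (trI σ X).val ∧ X.val * st σ R = cz c • st σ R := by
    intro R S hp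
    have h1 := congrArg mx (h _ (up_mem hp)).eq
    rw [mx_mul, mx_mul, mx_lev, mx_up, mat3_mul, mat3_mul, mat3_inj] at h1
    simp only [Matrix.mul_zero, Matrix.zero_mul, Matrix.one_mul, Matrix.mul_one, add_zero, zero_add] at h1
    obtain ⟨-, h2, -, -, h5, -⟩ := h1
    rw [Matrix.mul_neg, Matrix.mul_smul, Matrix.mul_one, smul_neg, neg_inj] at h5
    exact ⟨h2, h5⟩
  obtain ⟨t, ht0, ht⟩ := exists_skew (σ := σ)
  have hkk : ∀ k : Col K m, X.val * (k * st σ k) = k * st σ k * (trI σ X).val := fun k => by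
    have h1 := (hc 0 (t • (k * st σ k)) (mpair_zero (by rw [st_smul, st_mul, st_st, ← add_smul, ht, zero_smul]))).1
    rw [Matrix.mul_smul, Matrix.smul_mul] at h1
    exact smul_right_injective _ ht0 h1
  obtain ⟨ν, hν⟩ := scalar_of_eigen hm (A := X.val) fun k => by
    by_cases hk : k = 0
    · exact ⟨1, by rw [hk, Matrix.mul_zero, smul_zero]⟩
    have hk' : st σ k ≠ 0 := fun h0 => hk (st_eq_zero h0)
    obtain ⟨y, hy⟩ := exists_col_ne hk'
    have h1 := congrArg (fun M : Matrix (Fin m) (Fin m) K => M * y) (hkk k)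
    simp only [Matrix.mul_assoc] at h1
    rw [one_by_one (st σ k * y), one_by_one (st σ k * ((trI σ X).val * y)), Matrix.mul_smul, Matrix.mul_one,
      Matrix.mul_smul, Matrix.mul_smul, Matrix.mul_one] at h1
    have h0 : (st σ k * y) 0 0 ≠ 0 := fun h0 => hy (by rw [one_by_one (st σ k * y), h0, zero_smul])
    exact ⟨((st σ k * y) 0 0)⁻¹ * (st σ k * ((trI σ X).val * y)) 0 0, by
      rw [← smul_smul, ← h1, inv_smul_smul₀ h0]⟩
  haveI : Nonempty (Fin m) := ⟨⟨0, hm⟩⟩
  have hd := ((isUnit_iff_isUnit_det _).1 X.isUnit).ne_zero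
  have hν0 : ν ≠ 0 := fun h0 => hd (by rw [hν, h0, zero_smul, det_zero])
  set i0 : Fin m := ⟨0, hm⟩
  have hs : σ ν • (trI σ X).val = 1 := by
    have h1 : st σ X.val * (trI σ X).val = 1 := st_inv_mul X
    rwa [hν, st_smul, st_one, Matrix.smul_mul, Matrix.one_mul] at h1
  have hσν : σ ν ≠ 0 := (map_ne_zero σ).2 hν0
  have htr : (trI σ X).val = (σ ν)⁻¹ • 1 := by rw [← hs, inv_smul_smul₀ hσν]
  have hN : ν = (σ ν)⁻¹ := by
    set k : Col K m := Matrix.of fun l _ => if l = i0 then 1 else 0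
    have h1 := congrFun (congrFun (hkk k) i0) i0
    rw [hν, htr, Matrix.smul_mul, Matrix.one_mul, Matrix.mul_smul, Matrix.mul_one] at h1
    simpa [k, st_apply, Matrix.mul_apply] using h1
  refine ⟨ν, ?_⟩
  rw [mx_lev, htr, ← hN, hν]
  have hZ : cz c • (1 : Matrix (Fin e) (Fin e) K) = ν • 1 := by
    rcases Nat.le_one_iff_eq_zero_or_eq_one.1 he with rfl | rfl
    · ext i; exact i.elim0
    obtain ⟨w, hw⟩ := exists_trace_one (σ := σ)
    set k : Col K m := Matrix.of fun l _ => if l = i0 then 1 else 0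
    have hpair : -w + σ (-w) + (st σ (1 : Matrix (Fin 1) (Fin 1) K) * (1 : Matrix (Fin 1) (Fin 1) K)) 0 0 = 0 := by
      rw [st_one, Matrix.mul_one, Matrix.one_apply_eq, map_neg]
      linear_combination -hw
    have h1 := (hc _ _ (mpair_rank_one (k := k) hpair)).2
    rw [Matrix.one_mul, st_st, hν, Matrix.smul_mul, Matrix.one_mul] at h1
    have h2 := congrFun (congrFun h1 i0) 0
    simp [k] at h2
    rw [h2]
  rw [hZ]
  ext i j
  rcases i with (i | i) | i <;> rcases j with (j | j) | j <;> simp [mat3, Matrix.one_apply]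

theorem to_nonzero (hm : 1 ≤ m) (he : e ≤ 1) {g v : Iso σ m e} {X : GL (Fin m) K} {c : Nz σ}
    {R : Matrix (Fin e) (Fin m) K} {S : Matrix (Fin m) (Fin m) K} {h : MPair σ R S} (hv : v ∈ radV σ m e)
    (eg : g = v * lev (X, c) * up R S h) :
    (∃ z : K, mx g = z • 1) ∨ ∃ k : Iso σ m e, ∃ v' ∈ radV σ m e, ∃ (X' : GL (Fin m) K)
      (R' : Matrix (Fin e) (Fin m) K) (S' : Matrix (Fin m) (Fin m) K) (h' : MPair σ R' S'),
      (X' = X ∨ X' = trI σ X) ∧ k * g * k⁻¹ = v' * lev (X', c) * up R' S' h' ∧ ¬ (R' = 0 ∧ S' = 0) := by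
  by_cases hne : R = 0 ∧ S = 0
  swap
  · exact Or.inr ⟨1, v, hv, X, R, S, h, Or.inl rfl, by rw [one_mul, inv_one, mul_one, eg], hne⟩
  rw [up_eq_one hne.1 hne.2, mul_one] at eg
  by_cases hv1 : v = 1
  · subst hv1
    rw [one_mul] at eg
    by_cases hc : ∀ y ∈ radU σ m e, Commute (lev (X, c)) y
    · exact Or.inl (eg ▸ central hm he hc)
    push Not at hc
    obtain ⟨y, hy, hyc⟩ := hc
    obtain ⟨R', S', h', e'⟩ := mem_radU.1 (mul_mem (lev_conj_U hy (X, c)⁻¹) (inv_mem hy))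
    have e'' : (lev (X, c))⁻¹ * y * lev (X, c) * y⁻¹ = up R' S' h' := by rw [← e', map_inv, inv_inv]
    refine Or.inr ⟨y, 1, one_mem _, X, R', S', h', Or.inl rfl, by rw [eg, ← e'']; group, fun h0 => hyc ?_⟩
    rw [up_eq_one h0.1 h0.2] at e''
    have := congrArg (fun z => lev (X, c) * z * y) e''
    simp only [mul_one] at this
    show _ = _
    rw [← this]; group
  · obtain ⟨R', S', h', e'⟩ := mem_radU.1 (lev_conj_U (mem_radV.1 hv) (trI σ X, c)⁻¹)
    refine Or.inr ⟨wS σ m e, 1, one_mem _, trI σ X, R', S', h', Or.inr rfl, ?_, fun h0 => hv1 ?_⟩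
    · rw [one_mul, ← e', map_inv, inv_inv, eg, ← conj_wS_lev]; group
    · rw [up_eq_one h0.1 h0.2, conj_eq_one_iff, conj_eq_one_iff] at e'
      exact e'

set_option maxHeartbeats 800000 in
theorem comm_of_steps (hm : 1 ≤ m) (he : e ≤ 1)
    (hz : ∀ g : Iso σ m e, dt g = 1 → ∀ z : K, mx g = z • 1 → IsComm g)
    (hb : ∀ g v : Iso σ m e, ∀ (X : GL (Fin m) K) (R : Matrix (Fin e) (Fin m) K) (S : Matrix (Fin m) (Fin m) K)
      (h : MPair σ R S), dt g = 1 → v ∈ radV σ m e → X.val.det = 1 → ¬ (R = 0 ∧ S = 0) →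
      g = v * lev (X, 1) * up R S h → IsComm g)
    (g : Iso σ m e) (hg : dt g = 1) : IsComm g := by
  have stage_one : ∀ (g v : Iso σ m e) (X : GL (Fin m) K) (c : Nz σ) (R : Matrix (Fin e) (Fin m) K)
      (S : Matrix (Fin m) (Fin m) K) (h : MPair σ R S), dt g = 1 → v ∈ radV σ m e → X.val.det = 1 →
      g = v * lev (X, c) * up R S h → IsComm g := by
    intro g v X c R S h hg hv hX eg
    rcases to_nonzero hm he hv eg with ⟨z, hgz⟩ | ⟨k, v', hv', X', R', S', h', hX', e', hne⟩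
    · exact hz g hg z hgz
    have hg' : dt (k * g * k⁻¹) = 1 := by rw [dt_conj, hg]
    have hX1 : X'.val.det = 1 := by
      rcases hX' with rfl | rfl
      · exact hX
      · rw [det_trI, hX, map_one, inv_one]
    exact IsComm.of_conj k (hb _ v' X' R' S' h' hg' hv' hX1 hne (mid_one he hv' (up_mem h') hg' hX1 e'))
  have stage_det : ∀ (g v : Iso σ m e) (X : GL (Fin m) K) (c : Nz σ) (R : Matrix (Fin e) (Fin m) K)
      (S : Matrix (Fin m) (Fin m) K) (h : MPair σ R S), dt g = 1 → v ∈ radV σ m e → (e = 1 → R ≠ 0) →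
      ¬ (R = 0 ∧ S = 0) → g = v * lev (X, c) * up R S h → IsComm g := by
    intro g v X c R S h hg hv hRe hne eg
    have hd : X.val.det ≠ 0 := ((isUnit_iff_isUnit_det _).1 X.isUnit).ne_zero
    obtain ⟨R', S', h', hA⟩ : Good σ R S fun A => A.det = X.val.det⁻¹ := by
      by_cases hR : R = 0
      · subst hR
        have he0 : e = 0 := by
          by_contra h0
          exact hRe (by omega) rfl
        refine det_move_zero h (fun hS => hne ⟨rfl, hS⟩) ?_
        have h1 := (dt_parts hv (up_mem h) eg).symm.trans hg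
        subst he0
        rw [dt_lev, pow_zero, mul_one, ← div_eq_mul_inv, div_eq_one_iff_eq ((map_ne_zero σ).2 hd)] at h1
        rw [map_inv₀, ← h1]
      · exact det_move he h hR
    have hA0 : (1 + S * S' - st σ R * R').det ≠ 0 := by
      exact fun h0 => inv_ne_zero hd ((show _ = X.val.det⁻¹ from hA).symm.trans h0)
    obtain ⟨v', hv', a, c', R₀, S₀, h₀, ha, e', -⟩ := conj_lo he h' hv eg hA0
    refine IsComm.of_conj (lo R' S' h')⁻¹ (stage_one _ v' (X * a) c' R₀ S₀ h₀ ?_ hv' ?_ (by rw [inv_inv]; exact e'))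
    · rw [dt_conj, hg]
    · rw [Units.val_mul, det_mul, ha]
      exact (congrArg (X.val.det * ·) hA).trans (mul_inv_cancel₀ hd)
  obtain ⟨u₀, hu₀, htop⟩ := invert he g
  refine IsComm.of_conj u₀ ?_
  have hg₁ : dt (u₀ * g * u₀⁻¹) = 1 := by rw [dt_conj, hg]
  obtain ⟨v, hv, X, c, u, hu, eq, -⟩ := decomp he (u₀ * g * u₀⁻¹) (by rwa [top_mul_radU _ (inv_mem hu₀)])
  obtain ⟨R, S, h, rfl⟩ := mem_radU.1 hu
  generalize u₀ * g * u₀⁻¹ = g₁ at eq hg₁
  rcases to_nonzero hm he hv eq with ⟨z, hgz⟩ | ⟨k, v', hv', X', R', S', h', -, e', hne⟩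
  · exact hz _ hg₁ z hgz
  refine IsComm.of_conj k ?_
  have hg₂ : dt (k * g₁ * k⁻¹) = 1 := by rw [dt_conj, hg₁]
  generalize k * g₁ * k⁻¹ = g₂ at e' hg₂
  by_cases hRe : e = 1 → R' ≠ 0
  · exact stage_det g₂ v' X' c R' S' h' hg₂ hv' hRe hne e'
  rw [Classical.not_imp, not_not] at hRe
  obtain ⟨rfl, rfl⟩ := hRe
  obtain ⟨R₁, S₁, h₁, hA, hR₁⟩ := make_R h' fun hS => hne ⟨rfl, hS⟩
  obtain ⟨v₂, hv₂, a, c', R₀, S₀, h₀, ha, e₂, eR⟩ := conj_lo he h₁ hv' e' hA
  have hR₀ : R₀ ≠ 0 := fun h0 => hR₁ (by rw [← eR, h0, st_zero, Matrix.mul_zero])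
  refine IsComm.of_conj (lo R₁ S₁ h₁)⁻¹ (stage_det _ v₂ (X' * a) c' R₀ S₀ h₀ (by rw [dt_conj, hg₂]) hv₂
    (fun _ => hR₀) (fun h0 => hR₀ h0.1) (by rw [inv_inv]; exact e₂))

/-- The isometry of a model element. -/
def toIso (g : Model σ m e) : Iso σ m e :=
  ⟨g.1, by
    have h := congrArg (fun M : Matrix (Idx m e) (Idx m e) K => M.map σ) g.2.2
    have hinv : ∀ M : Matrix (Idx m e) (Idx m e) K, (M.map σ).map σ = M := fun M => by
      ext i j; simp [Invol.invol]
    have hG : (gram m e K).map σ = gram m e K := by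
      conv_rhs => rw [← transpose_transpose (gram m e K), ← st_gram (σ := σ) (m := m) (e := e)]
      rw [st, transpose_transpose, ← transpose_map]
      congr 1
      ext i j
      rcases i with (i | i) | i <;> rcases j with (j | j) | j <;> simp [gram_eq, mat3, Matrix.one_apply, eq_comm]
    simp only [Matrix.map_mul, hinv, hG] at h
    show st σ g.1.val * gram m e K * g.1.val = gram m e K
    rw [st, ← transpose_map] at *
    exact h⟩

theorem dt_toIso (g : Model σ m e) : dt (toIso g) = 1 := g.2.1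

theorem mem_model {a : Iso σ m e} (ha : dt a = 1) : (a : GL (Idx m e) K) ∈ Model σ m e := by
  refine ⟨ha, ?_⟩
  have h : st σ (mx a) * gram m e K * mx a = gram m e K := a.2
  have h1 := congrArg (fun M : Matrix (Idx m e) (Idx m e) K => (st σ M)ᵀ) h
  simp only [st_mul, st_st, st_gram, transpose_mul] at h1
  have hG : (gram m e K)ᵀ = gram m e K := by
    ext i j
    rcases i with (i | i) | i <;> rcases j with (j | j) | j <;> simp [gram_eq, mat3, Matrix.one_apply, eq_comm]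
  simp only [hG, st, transpose_transpose, ← Matrix.mul_assoc] at h1
  exact h1

/-- The scalar case. -/
def CentralComm (σ : K →+* K) (m e : ℕ) : Prop :=
  ∀ g : Model σ m e, ∀ z : K, g.1.val = z • 1 → ∃ a b : Model σ m e, g = a * b * a⁻¹ * b⁻¹

theorem isComm_central (hc : CentralComm σ m e) (g : Iso σ m e) (hg : dt g = 1) (z : K) (h : mx g = z • 1) :
    IsComm g := by
  obtain ⟨a, b, hab⟩ := hc ⟨g.1, mem_model hg⟩ z h
  refine ⟨toIso a, toIso b, dt_toIso a, dt_toIso b, Subtype.ext ?_⟩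
  exact congrArg (fun x : Model σ m e => (x : GL (Idx m e) K)) hab

theorem allComm_of_isComm (h : ∀ g : Iso σ m e, dt g = 1 → IsComm g) : AllComm σ m e := by
  intro g
  obtain ⟨a, b, ha, hb, hab⟩ := h (toIso g) (dt_toIso g)
  refine ⟨⟨a.1, mem_model ha⟩, ⟨b.1, mem_model hb⟩, Subtype.ext ?_⟩
  exact congrArg (fun x : Iso σ m e => (x : GL (Idx m e) K)) hab

theorem all_comm_of_central (he : e ≤ 1) (hm : 2 ≤ m) (hc : CentralComm σ m e) (hSL : SLFacU σ m e) :
    AllComm σ m e := by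
  refine allComm_of_isComm fun g hg =>
    comm_of_steps (by omega) he (isComm_central hc) (fun g v X R S h hg hv hX hne eg => ?_) g hg
  by_cases hns : ∀ μ : K, X.val ≠ μ • 1
  · exact eg ▸ block_comm he (hSL _ hX hns) hv (up_mem h)
  push Not at hns
  obtain ⟨ν, hν⟩ := hns
  haveI : Nonempty (Fin m) := ⟨⟨0, by omega⟩⟩
  have hν0 : ν ≠ 0 := fun e0 => by
    rw [hν, e0, zero_smul, det_zero] at hX
    exact zero_ne_one hX
  obtain ⟨R', S', h', hA, hAs⟩ := scalar_move hm he h hne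
  obtain ⟨v', hv', a, c', R₀, S₀, h₀, ha, e', -⟩ := conj_lo he h' hv eg (by rw [hA]; exact one_ne_zero)
  have hXa : (X * a).val.det = 1 := by rw [Units.val_mul, det_mul, hX, ha, hA, one_mul]
  have hg' : dt ((lo R' S' h')⁻¹ * g * (lo R' S' h')⁻¹⁻¹) = 1 := by rw [dt_conj, hg]
  refine IsComm.of_conj (lo R' S' h')⁻¹ ?_
  rw [mid_one he hv' (up_mem h₀) hg' hXa (by rw [inv_inv]; exact e')]
  refine block_comm he (hSL _ hXa fun μ hμ => ?_) hv' (up_mem h₀)
  rw [Units.val_mul, hν, Matrix.smul_mul, Matrix.one_mul] at hμ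
  refine hAs (ν⁻¹ * μ) ?_
  rw [← ha, ← inv_smul_smul₀ hν0 a.val, hμ, smul_smul]

theorem all_comm_one_of_central (hc : CentralComm σ 1 1) (h1 : CFac σ 1 (1 : Matrix (Fin 1) (Fin 1) K)) :
    AllComm σ 1 1 := by
  refine allComm_of_isComm fun g hg =>
    comm_of_steps le_rfl le_rfl (isComm_central hc) (fun g v X R S h hg hv hX hne eg => ?_) g hg
  have hX1 : X.val = 1 := by
    rw [det_fin_one] at hX
    rw [one_by_one X.val, hX, one_smul]
  exact eg ▸ block_comm le_rfl (by rw [hX1]; exact h1) hv (up_mem h)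

end H34.Uni
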