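import Cfsg.Agent.H34.Uni.Decomp

/-!
Conjugations by lower radical elements: adjusting the determinant and leaving the scalars.
-/

set_option autoImplicit false
set_option linter.unusedSectionVars false

namespace H34.Uni

open Matrix hiding gram
open H31.Com.Uni

variable {K : Type*} [Field K] {σ : K →+* K} [Invol σ] {m e : ℕ}

/-! ### Columns -/

/-- A column. -/
abbrev Col (K : Type*) (m : ℕ) := Matrix (Fin m) (Fin 1) K

/-- The sesquilinear value. -/
def sv (σ : K →+* K) (S : Matrix (Fin m) (Fin m) K) (a b : Col K m) : K := (st σ a * S * b) 0 0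

theorem one_by_one (M : Matrix (Fin 1) (Fin 1) K) : M = M 0 0 • 1 := by
  ext i j
  rw [Subsingleton.elim i 0, Subsingleton.elim j 0, Matrix.smul_apply, Matrix.one_apply_eq, smul_eq_mul, mul_one]

theorem sv_pair {R : Matrix (Fin e) (Fin m) K} {S : Matrix (Fin m) (Fin m) K} (h : MPair σ R S) (a b : Col K m) :
    sv σ S a b + σ (sv σ S b a) + (st σ (R * a) * (R * b)) 0 0 = 0 := by
  have h1 := congrFun (congrFun (congrArg (fun M : Matrix (Fin m) (Fin m) K => st σ a * M * b) h) 0) 0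
  simp only [Matrix.mul_add, Matrix.add_mul, Matrix.mul_zero, Matrix.zero_mul, Matrix.add_apply] at h1
  have e2 : σ (sv σ S b a) = (st σ a * st σ S * b) 0 0 := by
    rw [sv, ← st_apply (σ := σ) (st σ b * S * a) 0 0, st_mul, st_mul, st_st, ← Matrix.mul_assoc]
  rw [e2, sv, st_mul, ← Matrix.mul_assoc]
  simp only [Matrix.mul_assoc] at h1 ⊢
  exact h1

theorem exists_col_ne {ι : Type*} {M : Matrix ι (Fin m) K} (hM : M ≠ 0) : ∃ k : Col K m, M * k ≠ 0 := by
  by_contra hc
  push Not at hc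
  refine hM (Matrix.ext fun i j => ?_)
  have := congrFun (congrFun (hc (Matrix.of fun l _ => if l = j then 1 else 0)) i) 0
  simpa [Matrix.mul_apply] using this

theorem exists_perp (hm : 2 ≤ m) {d : ℕ} (hd : d ≤ 1) (w : Matrix (Fin d) (Fin m) K) :
    ∃ y : Col K m, y ≠ 0 ∧ w * y = 0 := by
  set i0 : Fin m := ⟨0, by omega⟩
  set i1 : Fin m := ⟨1, by omega⟩
  have h01 : i1 ≠ i0 := fun h => by simp [i0, i1] at h
  by_cases hw : ∀ i, w i i0 = 0
  · refine ⟨Matrix.of fun l _ => if l = i0 then 1 else 0, fun h => ?_, ?_⟩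
    · simpa using congrFun (congrFun h i0) 0
    · ext i j
      simpa [Matrix.mul_apply] using hw i
  · push Not at hw
    obtain ⟨i, hi⟩ := hw
    refine ⟨Matrix.of fun l _ => (if l = i0 then w i i1 else 0) - (if l = i1 then w i i0 else 0), fun h => ?_, ?_⟩
    · have h1 := congrFun (congrFun h i1) 0
      simp [h01] at h1
      exact hi h1
    · ext i' j
      obtain rfl : i' = i := fin_sub hd _ _
      simp [Matrix.mul_apply, mul_sub, Finset.sum_sub_distrib]
      ring

theorem sv_smul (S : Matrix (Fin m) (Fin m) K) (t : K) (a b : Col K m) :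
    sv σ S a (t • b) = t * sv σ S a b ∧ sv σ S (t • a) b = σ t * sv σ S a b := by
  simp [sv, st_smul]

theorem sv_add (S : Matrix (Fin m) (Fin m) K) (a b c : Col K m) :
    sv σ S a (b + c) = sv σ S a b + sv σ S a c ∧ sv σ S (a + b) c = sv σ S a c + sv σ S b c := by
  simp [sv, st_add, Matrix.mul_add, Matrix.add_mul]

theorem exists_value_ne {S : Matrix (Fin m) (Fin m) K} (h : MPair σ (0 : Matrix (Fin e) (Fin m) K) S)
    (hS : S ≠ 0) : ∃ k, sv σ S k k ≠ 0 := by
  by_contra hc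
  push Not at hc
  obtain ⟨t, ht⟩ := Invol.nontriv (σ := σ)
  have h0 : ∀ a b, sv σ S a b = 0 := by
    intro a b
    have h1 := hc (a + b)
    have h2 := hc (a + t • b)
    simp only [(sv_add S _ _ _).1, (sv_add S _ _ _).2, (sv_smul S t _ _).1, (sv_smul S t _ _).2, hc,
      zero_add, add_zero, mul_zero] at h1 h2
    have h3 : (σ t - t) * sv σ S a b = 0 := by linear_combination σ t * h1 - h2
    exact (mul_eq_zero.1 h3).resolve_left (sub_ne_zero.2 ht)
  obtain ⟨b, hb⟩ := exists_col_ne hS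
  refine hb (Matrix.ext fun i j => ?_)
  obtain rfl : j = 0 := Subsingleton.elim _ _
  have := h0 (Matrix.of fun l _ => if l = i then 1 else 0) b
  rw [sv, Matrix.mul_assoc, Matrix.mul_apply] at this
  simpa [st_apply, apply_ite σ] using this

/-! ### Rank one pairs -/

theorem mpair_rank_one {z : Matrix (Fin e) (Fin 1) K} {k : Col K m} {u : K}
    (h : u + σ u + (st σ z * z) 0 0 = 0) : MPair σ (z * st σ k) (u • (k * st σ k)) := by
  rw [MPair, st_smul, st_mul, st_st, st_mul, st_st, Matrix.mul_assoc k (st σ z), ← Matrix.mul_assoc (st σ z),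
    one_by_one (st σ z * z), Matrix.smul_mul, Matrix.one_mul, Matrix.mul_smul, ← add_smul, ← add_smul, h, zero_smul]

theorem mpair_zero {S : Matrix (Fin m) (Fin m) K} (h : S + st σ S = 0) :
    MPair σ (0 : Matrix (Fin e) (Fin m) K) S := by
  rw [MPair, st_zero, Matrix.zero_mul, add_zero, h]

theorem skew_wedge (x y : Col K m) : (x * st σ y - y * st σ x) + st σ (x * st σ y - y * st σ x) = 0 := by
  rw [st_sub, st_mul, st_mul, st_st, st_st]; abel

theorem det_rank_one (c k : Col K m) : (1 + c * st σ k).det = 1 + (st σ k * c) 0 0 := by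
  rw [det_one_add_mul_comm, det_fin_one, Matrix.add_apply, Matrix.one_apply_eq]

theorem nonscalar_rank_one (hm : 2 ≤ m) {c k : Col K m} (hc : c ≠ 0) (hk : k ≠ 0) (μ : K) :
    1 + c * st σ k ≠ μ • (1 : Matrix (Fin m) (Fin m) K) := by
  intro h
  obtain ⟨y, hy, hky⟩ := exists_perp hm le_rfl (st σ k)
  have h1 := congrArg (· * y) h
  simp only [Matrix.add_mul, Matrix.one_mul, Matrix.mul_assoc, hky, Matrix.mul_zero, add_zero, Matrix.smul_mul] at h1
  have hμ : μ = 1 := by
    have h2 : (μ - 1) • y = 0 := by rw [sub_smul, one_smul, ← h1, sub_self]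
    exact sub_eq_zero.1 ((smul_eq_zero.1 h2).resolve_right hy)
  rw [hμ, one_smul, add_eq_left] at h
  have hk' : st σ k ≠ 0 := fun h0 => hk (st_eq_zero h0)
  obtain ⟨y', hy'⟩ := exists_col_ne hk'
  have h3 := congrArg (· * y') h
  simp only [Matrix.mul_assoc, Matrix.zero_mul] at h3
  rw [one_by_one (st σ k * y'), Matrix.mul_smul, Matrix.mul_one, smul_eq_zero] at h3
  refine hy' (Matrix.ext fun i j => ?_)
  rw [Subsingleton.elim i 0, Subsingleton.elim j 0]
  exact h3.resolve_right hc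

/-- The top block of the product with a rank one lower element. -/
theorem top_rank_one (R : Matrix (Fin e) (Fin m) K) (S : Matrix (Fin m) (Fin m) K) (z : Matrix (Fin e) (Fin 1) K)
    (k : Col K m) (u : K) :
    1 + S * (u • (k * st σ k)) - st σ R * (z * st σ k) = 1 + (u • (S * k) - st σ R * z) * st σ k := by
  rw [Matrix.sub_mul, Matrix.smul_mul, Matrix.mul_smul, Matrix.mul_assoc, Matrix.mul_assoc, add_sub_assoc]

/-- Determinant and nonscalarity of a top block. -/
def Good (σ : K →+* K) (R : Matrix (Fin e) (Fin m) K) (S : Matrix (Fin m) (Fin m) K) (P : Matrix (Fin m) (Fin m) K → Prop) :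
    Prop :=
  ∃ (R' : Matrix (Fin e) (Fin m) K) (S' : Matrix (Fin m) (Fin m) K), MPair σ R' S' ∧ P (1 + S * S' - st σ R * R')

theorem scalar_identity {n s s' f f' ξ ξ' : K} (hs : s ≠ 0) (hs' : s' ≠ 0)
    (h1 : ξ * ξ' * n * (s * s') + f * s' + f' * s = 0) (h2 : s + s' + n = 0) :
    (f - 1 + n * (ξ - 1 / s')) / s + (f' - 1 + n * (ξ' - 1 / s)) / s' + (ξ' - 1 / s) * (ξ - 1 / s') * n = 0 := by
  have e1 : (f - 1 + n * (ξ - 1 / s')) / s + (f' - 1 + n * (ξ' - 1 / s)) / s' + (ξ' - 1 / s) * (ξ - 1 / s') * n =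
      ((ξ * ξ' * n * (s * s') + f * s' + f' * s) - (s + s' + n)) / (s * s') := by
    field_simp
    ring
  rw [e1, h1, h2, sub_self, zero_div]

theorem norm_value_fixed (r : Matrix (Fin e) (Fin 1) K) : σ ((st σ r * r) 0 0) = (st σ r * r) 0 0 := by
  rw [← st_apply (σ := σ) (st σ r * r) 0 0, st_mul, st_st]

theorem norm_value_ne (he : e ≤ 1) {r : Matrix (Fin e) (Fin 1) K} (hr : r ≠ 0) : (st σ r * r) 0 0 ≠ 0 := by
  intro h
  exact hr (aniso (σ := σ) he (by rw [one_by_one (st σ r * r), h, zero_smul]))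

/-- The general rank one move along a column outside the kernel of `R`. -/
theorem move_col (he : e ≤ 1) {R : Matrix (Fin e) (Fin m) K} {S : Matrix (Fin m) (Fin m) K} (h : MPair σ R S)
    {k : Col K m} (hk : R * k ≠ 0) {f ξ : K}
    (hξ : ξ * σ ξ * (st σ (R * k) * (R * k)) 0 0 * (sv σ S k k * σ (sv σ S k k)) + f * σ (sv σ S k k) +
      σ f * sv σ S k k = 0) :
    ∃ (R' : Matrix (Fin e) (Fin m) K) (S' : Matrix (Fin m) (Fin m) K), MPair σ R' S' ∧ ∃ c : Col K m, 1 + S * S' - st σ R * R' = 1 + c * st σ k ∧ (1 + c * st σ k).det = f ∧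
      c = ((f - 1 + (st σ (R * k) * (R * k)) 0 0 * (ξ - 1 / σ (sv σ S k k))) / sv σ S k k) • (S * k) -
        (ξ - 1 / σ (sv σ S k k)) • (st σ R * (R * k)) := by
  set n := (st σ (R * k) * (R * k)) 0 0 with hn
  set s := sv σ S k k with hs
  have hn0 : n ≠ 0 := norm_value_ne he hk
  have h2 : s + σ s + n = 0 := sv_pair h k k
  have hs0 : s ≠ 0 := fun h0 => hn0 (by rw [h0, map_zero, zero_add, zero_add] at h2; exact h2)
  set ζ := ξ - 1 / σ s with hζ
  set u := (f - 1 + n * ζ) / s with hu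
  have hσn : σ n = n := norm_value_fixed _
  have hpair : u + σ u + (st σ (ζ • (R * k)) * (ζ • (R * k))) 0 0 = 0 := by
    rw [st_smul, Matrix.smul_mul, Matrix.mul_smul, smul_smul, Matrix.smul_apply, smul_eq_mul, ← hn, hu, hζ]
    simp only [map_div₀, map_add, map_sub, map_mul, map_one, hσn, Invol.invol]
    exact scalar_identity hs0 ((map_ne_zero σ).2 hs0) hξ h2
  refine ⟨_, _, mpair_rank_one (k := k) hpair, u • (S * k) - ζ • (st σ R * (R * k)), ?_, ?_, rfl⟩
  · rw [top_rank_one, Matrix.mul_smul (st σ R)]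
  · rw [det_rank_one, Matrix.mul_sub, Matrix.mul_smul, Matrix.mul_smul, Matrix.sub_apply, Matrix.smul_apply,
      Matrix.smul_apply, ← Matrix.mul_assoc, ← Matrix.mul_assoc, ← st_mul, smul_eq_mul, smul_eq_mul, ← hn,
      show (st σ k * S * k) 0 0 = s from rfl, hu, div_mul_cancel₀ _ hs0]
    ring

theorem det_move [Fintype K] (he : e ≤ 1) {R : Matrix (Fin e) (Fin m) K} {S : Matrix (Fin m) (Fin m) K}
    (h : MPair σ R S) (hR : R ≠ 0) {f : K} : Good σ R S fun A => A.det = f := by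
  obtain ⟨k, hk⟩ := exists_col_ne hR
  set n := (st σ (R * k) * (R * k)) 0 0
  set s := sv σ S k k
  have hn0 : n ≠ 0 := norm_value_ne he hk
  have h2 : s + σ s + n = 0 := sv_pair h k k
  have hs0 : s ≠ 0 := fun h0 => hn0 (by rw [h0, map_zero, zero_add, zero_add] at h2; exact h2)
  have hs0' : σ s ≠ 0 := (map_ne_zero σ).2 hs0
  have hσn : σ n = n := norm_value_fixed _
  obtain ⟨ξ, hξ⟩ := exists_norm (σ := σ) (x := -(f / s + σ (f / s)) / n) (by
    rw [map_div₀, map_neg, map_add, Invol.invol, hσn, add_comm])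
  obtain ⟨R', S', hp, c, e1, e2, -⟩ := move_col he h hk (f := f) (ξ := ξ) (by
    rw [hξ, map_div₀]
    field_simp
    ring)
  exact ⟨R', S', hp, e1 ▸ e2⟩

theorem det_move_zero {S : Matrix (Fin m) (Fin m) K} (h : MPair σ (0 : Matrix (Fin e) (Fin m) K) S) (hS : S ≠ 0)
    {f : K} (hf : σ f = f) : Good σ (0 : Matrix (Fin e) (Fin m) K) S fun A => A.det = f := by
  obtain ⟨k, hk⟩ := exists_value_ne h hS
  set s := sv σ S k k
  have h2 : s + σ s = 0 := by
    have := sv_pair h k k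
    simpa [st_zero] using this
  have hpair : (f - 1) / s + σ ((f - 1) / s) + (st σ (0 : Matrix (Fin e) (Fin 1) K) * (0 : Matrix (Fin e) (Fin 1) K)) 0 0 = 0 := by
    rw [map_div₀, map_sub, map_one, hf, eq_neg_of_add_eq_zero_right h2, Matrix.mul_zero, Matrix.zero_apply,
      div_neg, add_neg_cancel, add_zero]
  refine ⟨_, _, mpair_rank_one (k := k) hpair, ?_⟩
  show (1 + _ - _ : Matrix (Fin m) (Fin m) K).det = f
  rw [top_rank_one, Matrix.mul_zero, sub_zero, det_rank_one, Matrix.mul_smul, Matrix.smul_apply, smul_eq_mul,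
    ← Matrix.mul_assoc, show (st σ k * S * k) 0 0 = s from rfl, div_mul_cancel₀ _ hk]
  ring

theorem make_R {S : Matrix (Fin m) (Fin m) K} (h : MPair σ (0 : Matrix (Fin 1) (Fin m) K) S) (hS : S ≠ 0) :
    ∃ (R' : Matrix (Fin 1) (Fin m) K) (S' : Matrix (Fin m) (Fin m) K), MPair σ R' S' ∧ (1 + S * S' - st σ (0 : Matrix (Fin 1) (Fin m) K) * R').det ≠ 0 ∧
      S * st σ R' + st σ (0 : Matrix (Fin 1) (Fin m) K) ≠ 0 := by
  obtain ⟨k, hk⟩ := exists_value_ne h hS
  set s := sv σ S k k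
  have h2 : s + σ s = 0 := by
    have := sv_pair h k k
    simpa [st_zero] using this
  obtain ⟨w, hw⟩ := exists_trace_one (σ := σ)
  have hpair : -w + σ (-w) + (st σ (1 : Matrix (Fin 1) (Fin 1) K) * (1 : Matrix (Fin 1) (Fin 1) K)) 0 0 = 0 := by
    rw [st_one, Matrix.mul_one, Matrix.one_apply_eq, map_neg]
    linear_combination -hw
  refine ⟨_, _, mpair_rank_one (k := k) hpair, ?_, ?_⟩
  · rw [top_rank_one, st_zero, Matrix.zero_mul, sub_zero, det_rank_one, Matrix.mul_smul, Matrix.smul_apply,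
      smul_eq_mul, ← Matrix.mul_assoc, show (st σ k * S * k) 0 0 = s from rfl]
    intro h0
    have h1 := congrArg σ h0
    rw [map_add, map_one, map_mul, map_neg, eq_neg_of_add_eq_zero_right h2, map_zero] at h1
    have h3 : (w + σ w) * s = 0 := by linear_combination h1 - h0
    rw [hw, one_mul] at h3
    exact hk h3
  · rw [st_zero, add_zero, Matrix.one_mul, st_st]
    intro h0
    refine hk ?_
    show (st σ k * S * k) 0 0 = 0
    rw [Matrix.mul_assoc, h0, Matrix.mul_zero, Matrix.zero_apply]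

/-- Determinant one and not scalar. -/
def Bad (m : ℕ) (A : Matrix (Fin m) (Fin m) K) : Prop := A.det = 1 ∧ ∀ μ : K, A ≠ μ • 1

theorem skew_of_perp {R : Matrix (Fin e) (Fin m) K} {S : Matrix (Fin m) (Fin m) K} (h : MPair σ R S) {a : Col K m}
    (ha : R * a = 0) : ∀ b, sv σ S a b = -σ (sv σ S b a) := fun b => by
  have h1 := sv_pair h a b
  rw [ha, st_zero, Matrix.zero_mul, Matrix.zero_apply, add_zero] at h1
  exact eq_neg_of_add_eq_zero_left h1

theorem perp_move (hm : 2 ≤ m) {R : Matrix (Fin e) (Fin m) K} {S : Matrix (Fin m) (Fin m) K}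
    {x : Col K m} (hx0 : x ≠ 0) (hRx : R * x = 0) (hxx : sv σ S x x = 0) (hSx : S * x ≠ 0) :
    Good σ R S (Bad m) := by
  obtain ⟨t, ht0, ht⟩ := exists_skew (σ := σ)
  have hp : MPair σ (0 : Matrix (Fin e) (Fin m) K) (t • (x * st σ x)) := mpair_zero (by
    rw [st_smul, st_mul, st_st, ← add_smul, ht, zero_smul])
  refine ⟨_, _, hp, ?_⟩
  rw [Matrix.mul_zero, sub_zero, Matrix.mul_smul, ← Matrix.mul_assoc, ← Matrix.smul_mul]
  refine ⟨?_, fun μ => nonscalar_rank_one hm (smul_ne_zero ht0 hSx) hx0 μ⟩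
  rw [det_rank_one, Matrix.mul_smul, Matrix.smul_apply, smul_eq_mul, ← Matrix.mul_assoc,
    show (st σ x * S * x) 0 0 = sv σ S x x from rfl, hxx, mul_zero, add_zero]

theorem kernel_move (hm : 2 ≤ m) {R : Matrix (Fin e) (Fin m) K} {S : Matrix (Fin m) (Fin m) K} (h : MPair σ R S)
    {x y : Col K m} (hx0 : x ≠ 0) (hRx : R * x = 0) (hSx : S * x = 0) (hSy : S * y ≠ 0) :
    Good σ R S (Bad m) := by
  have hxy : sv σ S x y = 0 := by
    rw [skew_of_perp h hRx, sv, Matrix.mul_assoc, hSx, Matrix.mul_zero, Matrix.zero_apply, map_zero, neg_zero]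
  refine ⟨_, _, mpair_zero (skew_wedge y x), ?_⟩
  rw [Matrix.mul_zero, sub_zero, Matrix.mul_sub, ← Matrix.mul_assoc, ← Matrix.mul_assoc, hSx, Matrix.zero_mul,
    sub_zero]
  refine ⟨?_, fun μ => nonscalar_rank_one hm hSy hx0 μ⟩
  rw [det_rank_one, ← Matrix.mul_assoc, show (st σ x * S * y) 0 0 = sv σ S x y from rfl, hxy, add_zero]

theorem scalar_move_zero [Fintype K] (hm : 2 ≤ m) {S : Matrix (Fin m) (Fin m) K}
    (h : MPair σ (0 : Matrix (Fin e) (Fin m) K) S) (hS : S ≠ 0) : Good σ (0 : Matrix (Fin e) (Fin m) K) S (Bad m) := by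
  have hR : ∀ a : Col K m, (0 : Matrix (Fin e) (Fin m) K) * a = 0 := fun a => Matrix.zero_mul a
  have hsk : ∀ a b, sv σ S a b = -σ (sv σ S b a) := fun a b => skew_of_perp h (hR a) b
  obtain ⟨y, hy0, hyy⟩ : ∃ y : Col K m, y ≠ 0 ∧ sv σ S y y = 0 := by
    obtain ⟨a, ha⟩ : ∃ a : Col K m, a ≠ 0 :=
      ⟨Matrix.of fun _ _ => 1, fun h0 => by simpa using congrFun (congrFun h0 ⟨0, by omega⟩) 0⟩
    by_cases haa : sv σ S a a = 0
    · exact ⟨a, ha, haa⟩
    obtain ⟨b, hb, hab⟩ := exists_perp hm le_rfl (st σ a * S)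
    have hab' : sv σ S a b = 0 := by rw [sv, hab]; rfl
    have hba : sv σ S b a = 0 := by rw [hsk, hab', map_zero, neg_zero]
    obtain ⟨l, hl⟩ := exists_norm (σ := σ) (x := -sv σ S b b / sv σ S a a) (by
      have h1 : σ (sv σ S a a) = -sv σ S a a := by linear_combination hsk a a
      have h2 : σ (sv σ S b b) = -sv σ S b b := by linear_combination hsk b b
      rw [map_div₀, map_neg, h1, h2, neg_neg, div_neg, neg_div])
    refine ⟨l • a + b, fun h0 => ?_, ?_⟩
    · have h1 : sv σ S a (l • a + b) = 0 := by rw [h0, sv, Matrix.mul_zero]; rfl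
      rw [(sv_add S a _ _).1, (sv_smul S l a a).1, hab', add_zero] at h1
      rw [(mul_eq_zero.1 h1).resolve_right haa, zero_smul, zero_add] at h0
      exact hb h0
    · rw [(sv_add S _ _ _).2, (sv_add S _ _ _).1, (sv_add S _ _ _).1, (sv_smul S l _ _).2, (sv_smul S l _ _).2,
        (sv_smul S l _ _).1, (sv_smul S l _ _).1, hab', hba]
      field_simp at hl
      linear_combination hl
  by_cases hSy : S * y = 0
  · obtain ⟨x, hx⟩ := exists_col_ne hS
    exact kernel_move hm h hy0 (hR y) hSy hx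
  · exact perp_move hm hy0 (hR y) hyy hSy

theorem scalar_move [Fintype K] (hm : 2 ≤ m) (he : e ≤ 1) {R : Matrix (Fin e) (Fin m) K}
    {S : Matrix (Fin m) (Fin m) K} (h : MPair σ R S) (hne : ¬ (R = 0 ∧ S = 0)) : Good σ R S (Bad m) := by
  by_cases hR : R = 0
  · subst hR
    exact scalar_move_zero hm h fun hS => hne ⟨rfl, hS⟩
  obtain ⟨x, hx0, hRx⟩ := exists_perp hm he R
  obtain ⟨k, hk⟩ := exists_col_ne hR
  set n := (st σ (R * k) * (R * k)) 0 0
  have hn0 : n ≠ 0 := norm_value_ne he hk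
  by_cases hSx : S * x = 0
  · refine kernel_move hm h hx0 hRx hSx (y := k) fun h0 => hn0 ?_
    have h2 := sv_pair h k k
    rwa [sv, Matrix.mul_assoc, h0, Matrix.mul_zero, Matrix.zero_apply, map_zero, zero_add, zero_add] at h2
  by_cases hxx : sv σ S x x = 0
  · exact perp_move hm hx0 hRx hxx hSx
  obtain ⟨a, ha⟩ := Invol.nontriv (σ := σ)
  have ha0 : a ≠ 0 := fun h0 => ha (by rw [h0, map_zero])
  set l := σ a / a
  have hl1 : l ≠ 1 := fun h0 => ha (div_eq_one_iff_eq ha0 |>.1 h0)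
  have hlN : l * σ l = 1 := by
    have : σ a ≠ 0 := (map_ne_zero σ).2 ha0
    rw [show σ l = a / σ a by rw [map_div₀, Invol.invol]]
    show σ a / a * (a / σ a) = 1
    field_simp
  have key : ∀ k' : Col K m, R * k' = R * k →
      Good σ R S (Bad m) ∨ n • (S * k') = sv σ S k' k' • (st σ R * (R * k)) := by
    intro k' hk'
    have hk'0 : R * k' ≠ 0 := hk' ▸ hk
    set s := sv σ S k' k'
    have h2 : s + σ s + n = 0 := by
      have := sv_pair h k' k'
      rwa [hk'] at this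
    have hs0 : s ≠ 0 := fun h0 => hn0 (by rw [h0, map_zero, zero_add, zero_add] at h2; exact h2)
    have hs0' : σ s ≠ 0 := (map_ne_zero σ).2 hs0
    obtain ⟨R', S', hp, c, e1, e2, hc⟩ := move_col he h hk'0 (f := 1) (ξ := l / σ s) (by
      rw [hk', map_div₀, Invol.invol, map_one, one_mul, one_mul]
      show l / σ s * (σ l / s) * n * (s * σ s) + σ s + s = 0
      field_simp
      linear_combination h2 + n * hlN)
    by_cases hc0 : c = 0
    · right
      rw [hc0, hk', eq_comm, sub_eq_zero] at hc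
      have hζ : l / σ s - 1 / σ s ≠ 0 := by
        rw [← sub_div]; exact div_ne_zero (sub_ne_zero.2 hl1) hs0'
      have h3 := congrArg ((s / (l / σ s - 1 / σ s)) • ·) hc
      simp only [smul_smul] at h3
      rw [div_mul_cancel₀ _ hζ] at h3
      refine Eq.trans ?_ h3
      congr 1
      show n = s / (l / σ s - 1 / σ s) * ((1 - 1 + n * (l / σ s - 1 / σ s)) / s)
      field_simp
      ring
    · left
      refine ⟨R', S', hp, ?_⟩
      rw [e1]
      refine ⟨e2, fun μ => nonscalar_rank_one hm hc0 (fun h0 => hk'0 ?_) μ⟩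
      rw [h0, Matrix.mul_zero]
  rcases key k rfl with hg | h1
  · exact hg
  rcases key (k + x) (by rw [Matrix.mul_add, hRx, add_zero]) with hg | h3
  · exact hg
  exfalso
  rw [Matrix.mul_add, smul_add, h1] at h3
  have h4 := congrFun (congrFun (congrArg (fun M : Col K m => st σ x * M) h3) 0) 0
  simp only [Matrix.mul_add, Matrix.mul_smul, Matrix.add_apply, Matrix.smul_apply, smul_eq_mul,
    ← Matrix.mul_assoc, ← st_mul, hRx, st_zero, Matrix.zero_mul, Matrix.zero_apply, mul_zero, zero_add] at h4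
  exact hxx ((mul_eq_zero.1 h4).resolve_left hn0)

/-! ### Conjugating -/

variable [Fintype K]

set_option maxHeartbeats 800000 in
theorem conj_lo (he : e ≤ 1) {g v : Iso σ m e} {X : GL (Fin m) K} {c : Nz σ} {R R' : Matrix (Fin e) (Fin m) K}
    {S S' : Matrix (Fin m) (Fin m) K} {h : MPair σ R S} (h' : MPair σ R' S') (hv : v ∈ radV σ m e)
    (eg : g = v * lev (X, c) * up R S h) (hA : (1 + S * S' - st σ R * R').det ≠ 0) :
    ∃ v' ∈ radV σ m e, ∃ (a : GL (Fin m) K) (c' : Nz σ) (R₀ : Matrix (Fin e) (Fin m) K)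
      (S₀ : Matrix (Fin m) (Fin m) K) (h₀ : MPair σ R₀ S₀), a.val = 1 + S * S' - st σ R * R' ∧
      (lo R' S' h')⁻¹ * g * lo R' S' h' = v' * lev (X * a, c') * up R₀ S₀ h₀ ∧
      a.val * st σ R₀ = S * st σ R' + st σ R := by
  have e1 : mx (up R S h * lo R' S' h') = mat3 (1 + S * S' + (-st σ R) * R') S S' 1
      (S * (-st σ R') + -st σ R) (-st σ R') (R * S' + R') R (R * (-st σ R') + 1) := by
    simp [mx_mul, mx_up, mx_lo, mat3_mul]
  have htop : top (up R S h * lo R' S' h') = 1 + S * S' - st σ R * R' := by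
    rw [top_mat3 e1, Matrix.neg_mul, sub_eq_add_neg]
  obtain ⟨v₀, hv₀, a, γ, u, hu, eq, ha⟩ := decomp he (up R S h * lo R' S' h') (by
    rw [htop]; exact IsUnit.mk0 _ hA)
  obtain ⟨R₀, S₀, h₀, rfl⟩ := mem_radU.1 hu
  obtain ⟨Rv, Sv, hv', rfl⟩ := exists_lo hv₀
  refine ⟨(lo R' S' h')⁻¹ * v * (lev (X, c) * lo Rv Sv hv' * (lev (X, c))⁻¹),
    mul_mem (mul_mem (inv_mem (lo_mem _)) hv) (lev_conj_V (lo_mem _) _), a, c * γ, R₀, S₀, h₀, ha.trans htop, ?_, ?_⟩
  · rw [eg, show (X * a, c * γ) = (X, c) * (a, γ) from rfl, map_mul]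
    calc (lo R' S' h')⁻¹ * (v * lev (X, c) * up R S h) * lo R' S' h'
        = (lo R' S' h')⁻¹ * v * lev (X, c) * (up R S h * lo R' S' h') := by group
      _ = _ := by rw [eq]; group
  · rw [eq, mx_mul, mx_mul, mx_lev, mx_lo, mx_up, mat3_mul, mat3_mul, mat3_inj] at e1
    simp only [Matrix.one_mul, Matrix.mul_one, Matrix.zero_mul, Matrix.mul_zero, add_zero, zero_add] at e1
    have h5 := e1.2.2.2.2.1
    rw [Matrix.mul_neg, Matrix.mul_neg, ← neg_add, neg_inj] at h5
    exact h5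

end H34.Uni
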